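import Groth.Agent.Lib.Constructible.Strata
import Groth.Agent.Lib.EtSite.Immersion
import Mathlib.AlgebraicGeometry.Morphisms.Immersion

/-!
# Immersions with constructible image; lifting geometric points along immersions
-/

universe u

open CategoryTheory CategoryTheory.Limits AlgebraicGeometry Opposite Topology

set_option backward.isDefEq.respectTransparency.types false

noncomputable section

namespace GrothLib.Constructible

variable {X T : Scheme.{u}} (g : T ⟶ X) [IsImmersion g]

theorem compactSpace_of_isConstructible_range [CompactSpace X] [QuasiSeparatedSpace X]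
    (hc : IsConstructible (Set.range g)) : CompactSpace T := by
  refine ⟨g.isEmbedding.isCompact_iff.2 ?_⟩
  rw [Set.image_univ]
  simpa using @IsCompact.image X X (constructibleTopology X) _ _ id
    (GrothLib.Constr.isCompact_constructibleTopology_of_isClosed
      (GrothLib.Constr.isClosed_constructibleTopology_of_isConstructible hc))
    GrothLib.Constr.continuous_id_constructibleTopology

/-- Along an immersion with constructible image, images of constructible sets are constructible. -/
theorem isConstructible_image_immersion [CompactSpace X] [QuasiSeparatedSpace X]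
    (hc : IsConstructible (Set.range g)) {R : Set T} (hR : IsConstructible R) :
    IsConstructible (g '' R) := by
  haveI := compactSpace_of_isConstructible_range g hc
  haveI : QuasiSeparatedSpace T := quasiSeparatedSpace_of_quasiSeparated g
  rw [GrothLib.Constr.isConstructible_iff_isClopen] at hR
  have hclosed : ∀ E : Set T, IsClosed[constructibleTopology T] E →
      IsClosed[constructibleTopology X] (g '' E) := fun E hE =>
    @IsCompact.isClosed X (constructibleTopology X) GrothLib.Constr.t2Space_constructibleTopology _
      (@IsCompact.image T X (constructibleTopology _) (constructibleTopology X) E g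
        (GrothLib.Constr.isCompact_constructibleTopology_of_isClosed hE)
        (GrothLib.Constr.continuous_constructibleTopology g))
  rw [GrothLib.Constr.isConstructible_iff_isClopen]
  refine ⟨?_, hclosed R hR.2⟩
  have hcompl : (g '' R)ᶜ = g '' Rᶜ ∪ (Set.range g)ᶜ := by
    rw [← Set.range_sdiff_image g.isEmbedding.injective]
    ext z
    by_cases hz : z ∈ Set.range g <;> simp [hz]
    intro r _ hr
    exact hz ⟨r, hr⟩
  refine (@isClosed_compl_iff X (constructibleTopology X) _).1 ?_
  rw [hcompl]
  exact @IsClosed.union X _ _ (constructibleTopology X)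
    (hclosed Rᶜ ((@isClosed_compl_iff T (constructibleTopology _) R).2 hR.1))
    (GrothLib.Constr.isClosed_constructibleTopology_of_isConstructible hc.compl)

/-- A geometric point landing in an immersed subscheme lifts to it. -/
theorem exists_point_lift {Ω : Type u} [Field Ω] [IsSepClosed Ω]
    (ξ : Spec (CommRingCat.of Ω) ⟶ X) (t : T) (ht : g.base t = ξ.base default) :
    ∃ ζ : Spec (CommRingCat.of Ω) ⟶ T, ζ ≫ g = ξ ∧ ζ.base default = t := by
  have hfac : g.liftCoborder.base t ∈ (⊤ : Set g.coborderRange) := trivial
  obtain ⟨ξ', hξ'⟩ := GrothLib.ExtZero.exists_lift_of_mem g.coborderRange.ι ξ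
    ⟨g.liftCoborder.base t, by
      rw [← ht, ← Scheme.Hom.comp_apply, g.liftCoborder_ι]⟩
  obtain ⟨ζ, hζ⟩ := GrothLib.EtSite.exists_point_lift g.liftCoborder ξ' t (by
    apply g.coborderRange.ι.isEmbedding.injective
    rw [← Scheme.Hom.comp_apply, g.liftCoborder_ι, ← Scheme.Hom.comp_apply, hξ']
    exact ht)
  have h : ζ ≫ g = ξ := by rw [← g.liftCoborder_ι, ← Category.assoc, hζ, hξ']
  refine ⟨ζ, h, g.isEmbedding.injective ?_⟩
  rw [ht, ← h]
  rfl

end GrothLib.Constructible
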