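import Groth.Agent.Lib.Constructible.Strata
import Groth.Agent.Lib.LocConst.Serre

/-!
# Constructible sheaves form a weak Serre subcategory

Kernels, cokernels and extensions of constructible sheaves are constructible, via common refinement
of stratifications.
-/

universe u

open CategoryTheory CategoryTheory.Limits AlgebraicGeometry Opposite Topology

set_option backward.isDefEq.respectTransparency.types false

noncomputable section

namespace GrothLib.Constructible

variable {X : Scheme.{u}}

/-- A property of sheaves deduced from finite local constancy of two sheaves along every immersion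
holds along a common refinement of two stratifications. -/
theorem adapted_of_two (A B C : EtCoh.Ab X) (U : X.Opens)
    (hA : EtPBC.AdaptedStrata A (U : Set X)) (hB : EtPBC.AdaptedStrata B (U : Set X))
    (h : ∀ (T : Scheme.{u}) (b : T ⟶ X), EtCoh.IsFiniteLocallyConstant ((EtCoh.pull b).obj A) →
      EtCoh.IsFiniteLocallyConstant ((EtCoh.pull b).obj B) →
        EtCoh.IsFiniteLocallyConstant ((EtCoh.pull b).obj C)) :
    EtPBC.AdaptedStrata C (U : Set X) := by
  obtain ⟨n, T, g, hg, hgc, -, hgcov, hgflc⟩ := hA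
  obtain ⟨m, S, k, hk, hkc, -, hkcov, hkflc⟩ := hB
  haveI : ∀ p : Fin n × Fin m, IsImmersion (pullback.fst (g p.1) (k p.2) ≫ g p.1) := fun p => by
    haveI := hg p.1
    haveI : IsImmersion (pullback.fst (g p.1) (k p.2)) :=
      MorphismProperty.pullback_fst (P := @IsImmersion) _ _ (hk p.2)
    infer_instance
  refine adapted_of_pieces C U (fun p : Fin n × Fin m => pullback (g p.1) (k p.2))
    (fun p => pullback.fst (g p.1) (k p.2) ≫ g p.1)
    (fun p => Set.range (g p.1) ∩ Set.range (k p.2)) (fun p => ?_) (fun p => ?_) (fun x hx => ?_)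
    (fun p => h _ _ ?_ ?_)
  · rintro x ⟨⟨t, rfl⟩, hx⟩
    obtain ⟨z, hz⟩ : t ∈ Set.range (pullback.fst (g p.1) (k p.2)) := by
      rw [Scheme.Pullback.range_fst]
      exact hx
    exact ⟨z, congrArg (g p.1) hz⟩
  · rw [Set.preimage_inter]
    exact (isConstructible_preimage_of_fac U (𝟙 _) U.ι (Category.id_comp _) (hgc p.1)).inter
      (isConstructible_preimage_of_fac U (𝟙 _) U.ι (Category.id_comp _) (hkc p.2))
  · obtain ⟨i, hi⟩ := Set.mem_iUnion.1 (hgcov.ge hx)
    obtain ⟨j, hj⟩ := Set.mem_iUnion.1 (hkcov.ge hx)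
    exact Set.mem_iUnion.2 ⟨⟨i, j⟩, hi, hj⟩
  · exact flc_of_fac _ (g p.1) _ rfl A (hgflc p.1)
  · exact flc_of_fac (pullback.snd _ _) (k p.2) _ pullback.condition.symm B (hkflc p.2)

theorem pull_exact {T : Scheme.{u}} (b : T ⟶ X) (S : ShortComplex (EtCoh.Ab X)) (hS : S.Exact) :
    (S.map (EtCoh.pull b)).Exact := by
  haveI := GrothLib.EtSite.pull_preservesFiniteLimits b
  exact hS.map (EtCoh.pull b)

theorem isConstructible_left (S : ShortComplex (EtCoh.Ab X)) (hS : S.Exact) [Mono S.f]
    (h2 : EtPBC.IsConstructible S.X₂) (h3 : EtPBC.IsConstructible S.X₃) :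
    EtPBC.IsConstructible S.X₁ := fun U hU =>
  adapted_of_two S.X₂ S.X₃ S.X₁ U (h2 U hU) (h3 U hU) fun T b a2 a3 => by
    haveI : Mono (S.map (EtCoh.pull b)).f := GrothLib.EtSite.pull_map_mono b S.f
    exact GrothLib.LocConst.flc_left (S.map (EtCoh.pull b)) (pull_exact b S hS) a2 a3

theorem isConstructible_right (S : ShortComplex (EtCoh.Ab X)) (hS : S.Exact) [Epi S.g]
    (h1 : EtPBC.IsConstructible S.X₁) (h2 : EtPBC.IsConstructible S.X₂) :
    EtPBC.IsConstructible S.X₃ := fun U hU =>
  adapted_of_two S.X₁ S.X₂ S.X₃ U (h1 U hU) (h2 U hU) fun T b a1 a2 => by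
    haveI : Epi (S.map (EtCoh.pull b)).g := (EtCoh.pull b).map_epi S.g
    exact GrothLib.LocConst.flc_right (S.map (EtCoh.pull b)) (pull_exact b S hS) a1 a2

theorem isConstructible_middle (S : ShortComplex (EtCoh.Ab X)) (hS : S.ShortExact)
    (h1 : EtPBC.IsConstructible S.X₁) (h3 : EtPBC.IsConstructible S.X₃) :
    EtPBC.IsConstructible S.X₂ := fun U hU =>
  adapted_of_two S.X₁ S.X₃ S.X₂ U (h1 U hU) (h3 U hU) fun T b a1 a3 => by
    haveI := hS.mono_f
    haveI := hS.epi_g
    haveI : Mono (S.map (EtCoh.pull b)).f := GrothLib.EtSite.pull_map_mono b S.f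
    haveI : Epi (S.map (EtCoh.pull b)).g := (EtCoh.pull b).map_epi S.g
    exact GrothLib.LocConst.flc_middle (S.map (EtCoh.pull b))
      ⟨pull_exact b S hS.exact⟩ a1 a3

theorem isConstructible_kernel_cokernel {F G : EtCoh.Ab X} (φ : F ⟶ G)
    (hF : EtPBC.IsConstructible F) (hG : EtPBC.IsConstructible G) :
    EtPBC.IsConstructible (kernel φ) ∧ EtPBC.IsConstructible (cokernel φ) := by
  refine ⟨?_, ?_⟩
  · let S : ShortComplex (EtCoh.Ab X) := ShortComplex.mk (kernel.ι φ) φ (kernel.condition φ)
    haveI : Mono S.f := inferInstanceAs (Mono (kernel.ι φ))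
    exact isConstructible_left S (ShortComplex.exact_kernel φ) hF hG
  · let S : ShortComplex (EtCoh.Ab X) := ShortComplex.mk φ (cokernel.π φ) (cokernel.condition φ)
    haveI : Epi S.g := inferInstanceAs (Epi (cokernel.π φ))
    exact isConstructible_right S (ShortComplex.exact_cokernel φ) hF hG

end GrothLib.Constructible
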