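import Groth.Agent.Lib.ExtZero.Flc
import Groth.Agent.Lib.ExtZero.Open
import Groth.Agent.Lib.Constructible.Serre
import Groth.Agent.Lib.Constructible.Image

/-!
# Extensions by zero of finite locally constant sheaves are constructible

Along an etale morphism of quasi-compact quasi-separated schemes: stratify the base by the
cardinality of geometric fibres in the separated case; glue over affine opens of the source.
-/

universe u

open CategoryTheory CategoryTheory.Limits AlgebraicGeometry Opposite Topology
open GrothLib.EtSite GrothLib.ExtZero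

set_option backward.isDefEq.respectTransparency.types false

noncomputable section

namespace GrothLib.Constructible

theorem jcont {U X : Scheme.{u}} (j : U ⟶ X) [Etale j] : EtShriek.JCont j :=
  GrothLib.LocConst.jCont_hom (Scheme.Etale.mk j)

theorem natCard_pts_baseChange {U X T P : Scheme.{u}} (j : U ⟶ X) (g : T ⟶ X) (j' : P ⟶ T)
    (g' : P ⟶ U) (h : IsPullback j' g' g j) {Ω : Type u} [Field Ω] [IsSepClosed Ω]
    (η : Spec (CommRingCat.of Ω) ⟶ T) : Nat.card (Pts j' η) = Nat.card (Pts j (η ≫ g)) :=
  Nat.card_congr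
    { toFun := fun p => ⟨p.1 ≫ g', by rw [Category.assoc, ← h.w, ← Category.assoc, p.2]⟩
      invFun := fun p => ⟨h.lift η p.1 p.2.symm, h.lift_fst _ _ _⟩
      left_inv := fun p => Subtype.ext (h.hom_ext (by rw [h.lift_fst, p.2]) (h.lift_snd _ _ _))
      right_inv := fun p => Subtype.ext (h.lift_snd _ _ _) }

section separated

variable {U X : Scheme.{u}} (j : U ⟶ X) [Etale j] [IsSeparated j] [QuasiCompact j]

/-- The points over which the geometric fibre has at least `k` points. -/
def atLeast (k : ℕ) : Set X :=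
  Set.range ((nonempty_tuples j k).some).W.hom.base

theorem mem_atLeast_iff (k : ℕ) {Ω : Type u} [Field Ω] [IsSepClosed Ω]
    (η : Spec (CommRingCat.of Ω) ⟶ X) :
    η.base default ∈ atLeast j k ↔ k ≤ Nat.card (Pts j η) := by
  haveI := finite_pts j η
  let T := (nonempty_tuples j k).some
  constructor
  · rintro ⟨w, hw⟩
    obtain ⟨s, -⟩ := exists_fib η (U := T.W) w hw
    let e : Fin k → Pts j η := fun i => ⟨s.left ≫ T.σ i, (Category.assoc _ _ _).trans
      ((congrArg (s.left ≫ ·) (T.w i)).trans (Over.w s))⟩
    have := Nat.card_le_card_of_injective e (fun a b h =>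
      T.inj Ω s.left (congrArg Subtype.val h))
    rwa [Nat.card_eq_fintype_card, Fintype.card_fin] at this
  · intro h
    let p : Fin k → Pts j η := fun i => (Finite.equivFin (Pts j η)).symm (Fin.castLE h i)
    obtain ⟨l, hl, -⟩ := T.surj Ω η p
      ((Equiv.injective _).comp (Fin.castLE_injective h))
    exact ⟨l.base default, (congrArg (fun m : Spec (CommRingCat.of Ω) ⟶ X => m.base default) hl)⟩

theorem mem_atLeast_iff' (k : ℕ) (x : X) : x ∈ atLeast j k ↔ k ≤ Nat.card (Pts j (gpt x)) := by
  have h := mem_atLeast_iff j k (gpt x)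
  rwa [gpt_default x] at h

theorem isOpen_atLeast (k : ℕ) : IsOpen (atLeast j k) := by
  haveI : Etale ((nonempty_tuples j k).some).W.hom := ((nonempty_tuples j k).some).W.prop
  exact ((nonempty_tuples j k).some).W.hom.isOpenMap.isOpen_range

theorem isConstructible_atLeast [CompactSpace X] [QuasiSeparatedSpace X] (k : ℕ) :
    IsConstructible (atLeast j k) := by
  let T := (nonempty_tuples j k).some
  haveI := T.qc
  let h : T.W.left ⟶ X := T.W.hom
  haveI : QuasiCompact h := T.qc
  have hc : IsCompact (atLeast j k) := by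
    change IsCompact (Set.range h)
    rw [← Set.image_univ, ← Set.preimage_univ (f := h)]
    exact (QuasiCompact.isCompact_preimage Set.univ isOpen_univ isCompact_univ).image
      h.continuous
  exact (hc.isRetrocompact (isOpen_atLeast j k)).isConstructible
    (isOpen_atLeast j k)

theorem flc_pull_extZero [EtShriek.JCont j] (F : EtCoh.Ab U)
    (hF : EtCoh.IsFiniteLocallyConstant F) {T : Scheme.{u}} (g : T ⟶ X) (k : ℕ)
    (h : ∀ t : T, g.base t ∈ atLeast j k ∧ g.base t ∉ atLeast j (k + 1)) :
    EtCoh.IsFiniteLocallyConstant ((EtCoh.pull g).obj ((EtShriek.extZero j).obj F)) := by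
  let j' : pullback g j ⟶ T := pullback.fst g j
  haveI : Etale j' := inferInstanceAs (Etale (pullback.fst g j))
  haveI : EtShriek.JCont j' := jcont j'
  have sq : IsPullback j' (pullback.snd g j) g j := IsPullback.of_hasPullback g j
  obtain ⟨e⟩ := nonempty_extZero_baseChange j g j' (pullback.snd g j) sq
  refine flc_of_iso (e.app F)
    (flc_extZero_of_card j' _ (GrothLib.LocConst.isFiniteLocallyConstant_pull _ F hF) k
      fun Ω _ _ η => ?_)
  rw [natCard_pts_baseChange j g j' _ sq η]
  obtain ⟨h1, h2⟩ := h (η.base default)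
  have a := (mem_atLeast_iff j k (η ≫ g)).1 h1
  have b : ¬ k + 1 ≤ Nat.card (Pts j (η ≫ g)) := fun hb => h2 ((mem_atLeast_iff j (k + 1) (η ≫ g)).2 hb)
  lia

/-- The separated case. -/
theorem isConstructible_extZero_separated [CompactSpace X] [QuasiSeparatedSpace X]
    [EtShriek.JCont j] (F : EtCoh.Ab U) (hF : EtCoh.IsFiniteLocallyConstant F) :
    EtPBC.IsConstructible ((EtShriek.extZero j).obj F) := by
  obtain ⟨N, hN⟩ : ∃ N : ℕ, ∀ x : X, x ∉ atLeast j N := by
    have hanti : ∀ {a b : ℕ}, a ≤ b → atLeast j b ⊆ atLeast j a := fun {a b} hab x hx => by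
      exact (mem_atLeast_iff' j a x).2 (hab.trans ((mem_atLeast_iff' j b x).1 hx))
    obtain ⟨t, ht⟩ := @IsCompact.elim_finite_subcover X (constructibleTopology _) Set.univ _
      (GrothLib.Constr.isCompact_constructibleTopology_of_isClosed
        (@isClosed_univ X (constructibleTopology _)))
      (fun k => (atLeast j k)ᶜ)
      (fun k => (GrothLib.Constr.isOpen_constructibleTopology_of_isConstructible
        (isConstructible_atLeast j k).compl).1)
      (fun x _ => Set.mem_iUnion.2 ⟨Nat.card (Pts j (gpt x)) + 1, fun hx => by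
        rw [mem_atLeast_iff'] at hx
        lia⟩)
    refine ⟨t.sup id, fun x hx => ?_⟩
    obtain ⟨k, hk, hxk⟩ := Set.mem_iUnion₂.1 (ht (Set.mem_univ x))
    exact hxk (hanti (Finset.le_sup (f := id) hk) hx)
  let O : ℕ → X.Opens := fun k => ⟨atLeast j k, isOpen_atLeast j k⟩
  let Z : ∀ k, TopologicalSpace.Closeds ↥(O k : Scheme.{u}) := fun k =>
    ⟨(O k).ι ⁻¹' (atLeast j (k + 1))ᶜ,
      (isOpen_atLeast j (k + 1)).isClosed_compl.preimage (O k).ι.continuous⟩
  let I := fun k => Scheme.IdealSheafData.vanishingIdeal (Z k)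
  let g : ∀ k, (I k).subscheme ⟶ X := fun k => (I k).subschemeι ≫ (O k).ι
  have hrange : ∀ k, Set.range (g k) = atLeast j k \ atLeast j (k + 1) := fun k => by
    rw [show Set.range (g k) = (O k).ι '' Set.range (I k).subschemeι from
      Set.range_comp (O k).ι (I k).subschemeι, Scheme.IdealSheafData.range_subschemeι,
      Scheme.IdealSheafData.coe_support_vanishingIdeal]
    refine (Set.image_preimage_eq_inter_range (f := (O k).ι)
      (t := (atLeast j (k + 1))ᶜ)).trans ?_
    rw [Scheme.Opens.range_ι, Set.inter_comm]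
    rfl
  rw [isConstructible_iff_univ]
  refine adapted_of_pieces ((EtShriek.extZero j).obj F) ⊤ (fun k : Fin (N + 1) => (I k).subscheme)
    (fun k => g k) (fun k => Set.range (g k)) (fun k => le_rfl) (fun k => ?_) (fun x _ => ?_)
    (fun k => flc_pull_extZero j F hF (g k) k fun t => (hrange k).le ⟨t, rfl⟩)
  · rw [hrange]
    exact (⊤ : X.Opens).ι.isConstructible_preimage
      ((isConstructible_atLeast j k).sdiff (isConstructible_atLeast j _))
  · have h1 : x ∈ atLeast j (Nat.card (Pts j (gpt x))) := (mem_atLeast_iff' j _ x).2 le_rfl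
    have h2 : x ∉ atLeast j (Nat.card (Pts j (gpt x)) + 1) := fun h => by
      have := (mem_atLeast_iff' j _ x).1 h
      lia
    have hlt : Nat.card (Pts j (gpt x)) < N + 1 := by
      by_contra hge
      refine hN x ((mem_atLeast_iff' j N x).2 ?_)
      lia
    exact Set.mem_iUnion.2 ⟨⟨_, hlt⟩, by rw [hrange]; exact ⟨h1, h2⟩⟩

end separated

section gluing

variable {U X : Scheme.{u}} (j : U ⟶ X) [Etale j] [EtShriek.JCont j] (F : EtCoh.Ab U)

/-- The part of `F` over an open `V`, extended by zero to `U`. -/
def openPart (V : U.Opens) : EtCoh.Ab U :=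
  (EtShriek.extZero V.ι).obj ((EtShriek.restrAlong V.ι).obj F)

/-- The inclusion of the part over `V`. -/
def openIncl (V : U.Opens) : openPart F V ⟶ F := (EtShriek.extZeroAdj V.ι).counit.app F

variable {Ω : Type u} [Field Ω] [IsSepClosed Ω] (ξ : Spec (CommRingCat.of Ω) ⟶ U)

theorem bijective_stalk_openIncl {V : U.Opens} (h : ξ.base default ∈ V) :
    Function.Bijective ((EtCoh.stalk ξ).map (openIncl F V)) :=
  (ConcreteCategory.isIso_iff_bijective _).1
    (isIso_stalk_counit V.ι F ξ (by rw [Scheme.Opens.range_ι]; exact h))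

theorem eq_zero_of_notMem {V : U.Opens} (h : ξ.base default ∉ V)
    (p : (EtCoh.stalk ξ).obj (openPart F V)) : p = 0 :=
  @Subsingleton.elim _ (AddCommGrpCat.subsingleton_of_isZero
    (stalk_extZero_isZero V.ι _ ξ (ne_of_notMem_range V.ι ξ (by rw [Scheme.Opens.range_ι]; exact h)))) _ _

instance mono_openIncl (V : U.Opens) : Mono (openIncl F V) := mono_of_stalks _ fun Ω _ _ η => by
  by_cases h : η.base default ∈ V
  · exact (bijective_stalk_openIncl F η h).1
  · exact fun a b _ => (eq_zero_of_notMem F η h a).trans (eq_zero_of_notMem F η h b).symm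

theorem openIncl_comp_cokernel {V W : U.Opens} (h : V ≤ W) :
    openIncl F V ≫ cokernel.π (openIncl F W) = 0 := zero_of_stalks _ fun Ω _ _ η => by
  ext p
  by_cases hV : η.base default ∈ V
  · obtain ⟨q, hq⟩ := (bijective_stalk_openIncl F η (h hV)).2 ((EtCoh.stalk η).map (openIncl F V) p)
    rw [Functor.map_comp, ConcreteCategory.comp_apply, ← hq, ← ConcreteCategory.comp_apply,
      ← Functor.map_comp, cokernel.condition, Functor.map_zero]
    rfl
  · rw [eq_zero_of_notMem F η hV p, map_zero, map_zero]

/-- The inclusions between parts. -/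
def openMap {V W : U.Opens} (h : V ≤ W) : openPart F V ⟶ openPart F W :=
  Abelian.monoLift (openIncl F W) (openIncl F V) (openIncl_comp_cokernel F h)

theorem openMap_incl {V W : U.Opens} (h : V ≤ W) :
    openMap F h ≫ openIncl F W = openIncl F V := Abelian.monoLift_comp _ _ _

instance mono_openMap {V W : U.Opens} (h : V ≤ W) : Mono (openMap F h) :=
  mono_of_mono_fac (openMap_incl F h)

/-- The Mayer-Vietoris sequence of two opens. -/
def mv (V A : U.Opens) : ShortComplex (EtCoh.Ab U) :=
  ShortComplex.mk
    (biprod.lift (openMap F (inf_le_left : V ⊓ A ≤ V)) (-(openMap F (inf_le_right : V ⊓ A ≤ A))))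
    (biprod.desc (openMap F (le_sup_left : V ≤ V ⊔ A)) (openMap F (le_sup_right : A ≤ V ⊔ A)))
    (by
      rw [biprod.lift_desc, ← cancel_mono (openIncl F (V ⊔ A))]
      simp [openMap_incl])

theorem bijective_openMap {V W : U.Opens} (h : V ≤ W) (hξ : ξ.base default ∈ V) :
    Function.Bijective ((EtCoh.stalk ξ).map (openMap F h)) := by
  have e : ⇑((EtCoh.stalk ξ).map (openIncl F W)) ∘ ⇑((EtCoh.stalk ξ).map (openMap F h)) =
      ⇑((EtCoh.stalk ξ).map (openIncl F V)) := by
    rw [← openMap_incl F h, Functor.map_comp]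
    rfl
  exact (Function.Bijective.of_comp_iff' (bijective_stalk_openIncl F ξ (h hξ)) _).1
    (e ▸ bijective_stalk_openIncl F ξ hξ)

theorem mv_exact (V A : U.Opens) : (mv F V A).Exact ∧ Epi (mv F V A).g := by
  constructor
  · refine shortComplex_exact_of_stalks _ fun Ω _ _ η => (ShortComplex.ab_exact_iff _).2 fun x hx => ?_
    let p := (EtCoh.stalk η).map (biprod.fst : openPart F V ⊞ openPart F A ⟶ openPart F V) x
    let q := (EtCoh.stalk η).map (biprod.snd : openPart F V ⊞ openPart F A ⟶ openPart F A) x
    let iV := (EtCoh.stalk η).map (biprod.inl : openPart F V ⟶ openPart F V ⊞ openPart F A)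
    let iA := (EtCoh.stalk η).map (biprod.inr : openPart F A ⟶ openPart F V ⊞ openPart F A)
    have hx' : iV p + iA q = x := by
      have := ConcreteCategory.congr_hom (congrArg (EtCoh.stalk η).map
        (biprod.total (X := openPart F V) (Y := openPart F A))) x
      rw [Functor.map_add, Functor.map_comp, Functor.map_comp, CategoryTheory.Functor.map_id] at this
      exact this
    have hg : (EtCoh.stalk η).map (openMap F (le_sup_left : V ≤ V ⊔ A)) p +
        (EtCoh.stalk η).map (openMap F (le_sup_right : A ≤ V ⊔ A)) q = 0 := by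
      refine Eq.trans ?_ hx
      let mV : openPart F V ⟶ openPart F (V ⊔ A) := openMap F le_sup_left
      let mA : openPart F A ⟶ openPart F (V ⊔ A) := openMap F le_sup_right
      have e : (biprod.desc mV mA : openPart F V ⊞ openPart F A ⟶ openPart F (V ⊔ A)) =
          biprod.fst ≫ mV + biprod.snd ≫ mA := biprod.desc_eq
      have e' := ConcreteCategory.congr_hom (congrArg (EtCoh.stalk η).map e) x
      rw [Functor.map_add, Functor.map_comp, Functor.map_comp] at e'
      exact e'.symm
    suffices ∃ w, (EtCoh.stalk η).map (openMap F (inf_le_left : V ⊓ A ≤ V)) w = p ∧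
        (EtCoh.stalk η).map (openMap F (inf_le_right : V ⊓ A ≤ A)) w = -q by
      obtain ⟨w, hw1, hw2⟩ := this
      refine ⟨w, Eq.trans ?_ hx'⟩
      let lV : openPart F (V ⊓ A) ⟶ openPart F V := openMap F inf_le_left
      let lA : openPart F (V ⊓ A) ⟶ openPart F A := -openMap F inf_le_right
      have e : (biprod.lift lV lA : openPart F (V ⊓ A) ⟶ openPart F V ⊞ openPart F A) =
          lV ≫ biprod.inl + lA ≫ biprod.inr := biprod.lift_eq
      have e' := ConcreteCategory.congr_hom (congrArg (EtCoh.stalk η).map e) w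
      rw [Functor.map_add, Functor.map_comp, Functor.map_comp] at e'
      refine Eq.trans e' ?_
      change iV ((EtCoh.stalk η).map lV w) + iA ((EtCoh.stalk η).map lA w) = _
      rw [show (EtCoh.stalk η).map lV w = p from hw1, show (EtCoh.stalk η).map lA w = q by
        simp only [lA, Functor.map_neg]
        change -(EtCoh.stalk η).map (openMap F inf_le_right) w = q
        rw [hw2, neg_neg]]
    have hmono : ∀ {B B' : U.Opens} (h : B ≤ B'),
        Function.Injective ((EtCoh.stalk η).map (openMap F h)) := fun h =>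
      GrothLib.LocConst.stalk_mono η _
    by_cases hV : η.base default ∈ V
    · by_cases hA : η.base default ∈ A
      · obtain ⟨w, hw⟩ := (bijective_openMap F η (inf_le_left : V ⊓ A ≤ V) ⟨hV, hA⟩).2 p
        refine ⟨w, hw, hmono (le_sup_right : A ≤ V ⊔ A) ?_⟩
        rw [map_neg, ← eq_neg_of_add_eq_zero_left hg, ← hw, ← ConcreteCategory.comp_apply,
          ← ConcreteCategory.comp_apply, ← Functor.map_comp, ← Functor.map_comp]
        refine congrArg (fun φ : openPart F (V ⊓ A) ⟶ openPart F (V ⊔ A) => (EtCoh.stalk η).map φ w) ?_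
        rw [← cancel_mono (openIncl F (V ⊔ A))]
        simp [openMap_incl]
      · have hq : q = 0 := eq_zero_of_notMem F η hA q
        rw [hq, map_zero, add_zero] at hg
        have hp : p = 0 := hmono _ (hg.trans (map_zero _).symm)
        exact ⟨0, by rw [map_zero, hp], by rw [map_zero, hq, neg_zero]⟩
    · have hp : p = 0 := eq_zero_of_notMem F η hV p
      rw [hp, map_zero, zero_add] at hg
      have hq : q = 0 := hmono _ (hg.trans (map_zero _).symm)
      exact ⟨0, by rw [map_zero, hp], by rw [map_zero, hq, neg_zero]⟩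
  · refine epi_of_stalks _ fun Ω _ _ η y => ?_
    by_cases hV : η.base default ∈ V
    · obtain ⟨p, hp⟩ := (bijective_openMap F η (le_sup_left : V ≤ V ⊔ A) hV).2 y
      refine ⟨(EtCoh.stalk η).map biprod.inl p, ?_⟩
      exact (ConcreteCategory.congr_hom (((EtCoh.stalk η).map_comp _ _).symm.trans
        (congrArg (EtCoh.stalk η).map (biprod.inl_desc _ _))) p).trans hp
    · by_cases hA : η.base default ∈ A
      · obtain ⟨p, hp⟩ := (bijective_openMap F η (le_sup_right : A ≤ V ⊔ A) hA).2 y
        refine ⟨(EtCoh.stalk η).map biprod.inr p, ?_⟩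
        exact (ConcreteCategory.congr_hom (((EtCoh.stalk η).map_comp _ _).symm.trans
          (congrArg (EtCoh.stalk η).map (biprod.inr_desc _ _))) p).trans hp
      · exact ⟨0, (map_zero _).trans (eq_zero_of_notMem F η (fun h : η.base default ∈ V ⊔ A => h.elim hV hA) y).symm⟩

theorem isConstructible_biprod {P Q : EtCoh.Ab X} (hP : EtPBC.IsConstructible P)
    (hQ : EtPBC.IsConstructible Q) : EtPBC.IsConstructible (P ⊞ Q) :=
  isConstructible_middle (ShortComplex.mk (biprod.inl : P ⟶ P ⊞ Q) biprod.snd biprod.inl_snd)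
    (ShortComplex.Splitting.shortExact
      { r := biprod.fst, s := biprod.inr, f_r := biprod.inl_fst, s_g := biprod.inr_snd,
        id := biprod.total }) hP hQ

theorem isConstructible_openPart_separated [CompactSpace X] [QuasiSeparatedSpace X]
    (hF : EtCoh.IsFiniteLocallyConstant F) (V : U.Opens) [IsSeparated (V.ι ≫ j)]
    [QuasiCompact (V.ι ≫ j)] :
    EtPBC.IsConstructible ((EtShriek.extZero j).obj (openPart F V)) := by
  haveI : EtShriek.JCont (V.ι ≫ j) := jcont (V.ι ≫ j)
  let r : EtShriek.restrAlong j ⋙ EtShriek.restrAlong V.ι ≅ EtShriek.restrAlong (V.ι ≫ j) :=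
    Functor.isoWhiskerRight (restrIsoPull j) _ ≪≫ Functor.isoWhiskerLeft _ (restrIsoPull V.ι) ≪≫
      (EtCore.pullComp V.ι j).symm ≪≫ (restrIsoPull (V.ι ≫ j)).symm
  let e := Adjunction.leftAdjointUniq
    (((EtShriek.extZeroAdj V.ι).comp (EtShriek.extZeroAdj j)).ofNatIsoRight r)
    (EtShriek.extZeroAdj (V.ι ≫ j))
  have h1 : EtCoh.IsFiniteLocallyConstant ((EtShriek.restrAlong V.ι).obj F) :=
    flc_of_iso ((restrIsoPull V.ι).app F).symm
      (GrothLib.LocConst.isFiniteLocallyConstant_pull V.ι F hF)
  have h2 := isConstructible_extZero_separated (V.ι ≫ j) _ h1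
  exact isConstructible_of_iso (e.app ((EtShriek.restrAlong V.ι).obj F)).symm h2
where
  isConstructible_of_iso {P Q : EtCoh.Ab X} (e : P ≅ Q) (h : EtPBC.IsConstructible P) :
      EtPBC.IsConstructible Q := fun W hW => by
    obtain ⟨n, T, g, h1, h2, h3, h4, h5⟩ := h W hW
    exact ⟨n, T, g, h1, h2, h3, h4, fun i => flc_of_iso ((EtCoh.pull (g i)).mapIso e) (h5 i)⟩

/-- The affine case of the base. -/
theorem isConstructible_extZero_of_isAffine [IsAffine X] [CompactSpace U] [QuasiSeparatedSpace U]
    (hF : EtCoh.IsFiniteLocallyConstant F) :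
    EtPBC.IsConstructible ((EtShriek.extZero j).obj F) := by
  have sep : ∀ (V : U.Opens) (A : U.affineOpens), IsCompact (V : Set U) → V ≤ A.1 →
      EtPBC.IsConstructible ((EtShriek.extZero j).obj (openPart F V)) := fun V A hV hle => by
    haveI : IsAffine (A.1 : Scheme.{u}) := A.2
    haveI : IsSeparated (V.ι ≫ j) := by
      rw [← U.homOfLE_ι hle, Category.assoc]
      infer_instance
    haveI : CompactSpace (V : Scheme.{u}) := isCompact_iff_compactSpace.1 hV
    haveI : QuasiCompact (V.ι ≫ j) :=
      HasAffineProperty.iff_of_isAffine.mpr (inferInstanceAs (CompactSpace (V : Scheme.{u})))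
    exact isConstructible_openPart_separated j F hF V
  haveI := GrothLib.ExtZero.preservesFiniteLimits_extZero j
  haveI : (EtShriek.extZero j).IsLeftAdjoint := (EtShriek.extZeroAdj j).isLeftAdjoint
  haveI : PreservesFiniteColimits (EtShriek.extZero j) := ⟨fun _ _ _ => inferInstance⟩
  haveI : (EtShriek.extZero j).Additive := Functor.additive_of_preserves_binary_products _
  haveI : PreservesBinaryBiproducts (EtShriek.extZero j) :=
    ⟨fun {K₁ K₂} => preservesBinaryBiproduct_of_preservesBinaryCoproduct _⟩
  have key : ∀ V : U.Opens, IsCompact (V : Set U) →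
      EtPBC.IsConstructible ((EtShriek.extZero j).obj (openPart F V)) := fun V hV => by
    suffices ∀ A : U.affineOpens, EtPBC.IsConstructible ((EtShriek.extZero j).obj (openPart F V)) ∧
        EtPBC.IsConstructible ((EtShriek.extZero j).obj (openPart F (V ⊔ A.1))) from
      (this ⟨⊥, isAffineOpen_bot U⟩).1
    refine compact_open_induction_on (P := fun V : U.Opens => ∀ A : U.affineOpens,
      EtPBC.IsConstructible ((EtShriek.extZero j).obj (openPart F V)) ∧
        EtPBC.IsConstructible ((EtShriek.extZero j).obj (openPart F (V ⊔ A.1)))) V hV ?_ ?_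
    · intro A
      rw [bot_sup_eq]
      exact ⟨sep ⊥ A isCompact_empty bot_le, sep A.1 A A.2.isCompact le_rfl⟩
    · intro S hS B ih A
      have step : ∀ (P : U.Opens) (C : U.affineOpens), IsCompact (P : Set U) →
          EtPBC.IsConstructible ((EtShriek.extZero j).obj (openPart F P)) →
          EtPBC.IsConstructible ((EtShriek.extZero j).obj (openPart F (P ⊔ C.1))) :=
        fun P C hP hcP => by
        obtain ⟨hex, hepi⟩ := mv_exact F P C.1
        haveI : Epi ((mv F P C.1).map (EtShriek.extZero j)).g := (EtShriek.extZero j).map_epi _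
        refine isConstructible_right ((mv F P C.1).map (EtShriek.extZero j)) (hex.map _)
          (sep (P ⊓ C.1) C (hP.inter_of_isOpen C.2.isCompact P.2 C.1.2) inf_le_right) ?_
        exact isConstructible_openPart_separated.isConstructible_of_iso
          ((EtShriek.extZero j).mapBiprod (openPart F P) (openPart F C.1)).symm
          (isConstructible_biprod hcP (sep C.1 C C.2.isCompact le_rfl))
      have hSB := (ih B).2
      exact ⟨hSB, step (S ⊔ B.1) A (hS.union B.2.isCompact) hSB⟩
  haveI : IsIso (openIncl F ⊤) := isIso_of_stalks _ fun Ω _ _ η =>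
    bijective_stalk_openIncl F η (show η.base default ∈ (⊤ : U.Opens) from trivial)
  exact isConstructible_openPart_separated.isConstructible_of_iso
    ((EtShriek.extZero j).mapIso (asIso (openIncl F ⊤))) (key ⊤ isCompact_univ)

/-- Extensions by zero of finite locally constant sheaves are constructible. -/
theorem isConstructible_extZero [CompactSpace X] [QuasiSeparatedSpace X] [CompactSpace U]
    [QuasiSeparatedSpace U] (hF : EtCoh.IsFiniteLocallyConstant F) :
    EtPBC.IsConstructible ((EtShriek.extZero j).obj F) := by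
  haveI : QuasiCompact j := QuasiCompact.of_comp j (terminal.from X)
  choose W hW hxW _ using fun x : X => affine_nhd (X := X) isOpen_univ (Set.mem_univ x)
  refine isConstructible_of_cover _ W
    (top_le_iff.1 fun x _ => TopologicalSpace.Opens.mem_iSup.2 ⟨x, hxW x⟩) fun x => ?_
  haveI : IsAffine (W x : Scheme.{u}) := hW x
  let j' : pullback (W x).ι j ⟶ (W x : Scheme.{u}) := pullback.fst (W x).ι j
  haveI : Etale j' := inferInstanceAs (Etale (pullback.fst (W x).ι j))
  haveI : EtShriek.JCont j' := jcont j'
  haveI : CompactSpace ↥(pullback (W x).ι j) :=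
    QuasiCompact.compactSpace_of_compactSpace j'
  haveI : QuasiSeparatedSpace ↥(pullback (W x).ι j) :=
    quasiSeparatedSpace_of_quasiSeparated (pullback.snd (W x).ι j)
  obtain ⟨e⟩ := nonempty_extZero_baseChange j (W x).ι j' (pullback.snd (W x).ι j)
    (IsPullback.of_hasPullback _ _)
  exact isConstructible_openPart_separated.isConstructible_of_iso (e.app F)
    (isConstructible_extZero_of_isAffine j' _
      (GrothLib.LocConst.isFiniteLocallyConstant_pull _ F hF))

end gluing

end GrothLib.Constructible
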