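import Groth.Agent.Lib.ExtZero.Compare
import Groth.Agent.Lib.EtSite.PushUI
import Groth.Agent.Lib.Constructible.ExtZero
import Mathlib.AlgebraicGeometry.Morphisms.Finite

/-!
# Direct images along finite etale morphisms

Extension by zero agrees with direct image along finite etale morphisms; direct images of finite
locally constant sheaves along them are finite locally constant.
-/

universe u

open CategoryTheory CategoryTheory.Limits AlgebraicGeometry Opposite
open GrothLib.EtSite GrothLib.ExtZero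

set_option backward.isDefEq.respectTransparency.types false

noncomputable section

namespace GrothLib.Constructible

variable {U X : Scheme.{u}} (j : U ⟶ X) [Etale j] [IsFinite j]

theorem bijective_stalk_toPush [EtShriek.JCont j] {Ω : Type u} [Field Ω] [IsAlgClosed Ω]
    (ξ : Spec (CommRingCat.of Ω) ⟶ X) (F : EtCoh.Ab U) :
    Function.Bijective ((EtCoh.stalk ξ).map ((toPush j).app F)) := by
  classical
  refine ⟨injective_stalk_toPush j ξ F, fun y => ?_⟩
  haveI := finite_pts j ξ
  haveI := Fintype.ofFinite (Pts j ξ)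
  let q : ∀ u : Pts j ξ, (EtCoh.stalk u.1).obj F := fun u => ev j u.1 u.2 F y
  let x : stalkSum j ξ F := ∑ u : Pts j ξ, Sigma.ι (fun u : Pts j ξ => (EtCoh.stalk u.1).obj F) u (q u)
  refine ⟨fromSum j ξ F x, ev_jointly_injective j F _ _ fun v hv => ?_⟩
  change component j ξ F ⟨v, hv⟩ x = q ⟨v, hv⟩
  rw [map_sum, Finset.sum_eq_single ⟨v, hv⟩]
  · refine (ConcreteCategory.congr_hom (ι_component j ξ F ⟨v, hv⟩ ⟨v, hv⟩) _).trans ?_
    rw [dif_pos rfl]
    rfl
  · intro u _ hu
    refine (ConcreteCategory.congr_hom (ι_component j ξ F ⟨v, hv⟩ u) _).trans ?_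
    rw [dif_neg hu]
    rfl
  · exact fun h => absurd (Finset.mem_univ _) h

theorem isIso_toPush [EtShriek.JCont j] (F : EtCoh.Ab U) : IsIso ((toPush j).app F) :=
  isIso_of_stalksAC _ fun Ω _ _ ξ => bijective_stalk_toPush j ξ F

theorem isClosed_atLeast (k : ℕ) : IsClosed (atLeast j k) := by
  haveI : UniversallyClosed ((nonempty_tuples j k).some).W.hom :=
    ((nonempty_tuples j k).some).uc inferInstance
  exact ((nonempty_tuples j k).some).W.hom.isClosedMap.isClosed_range

omit j in
/-- Finite local constancy is Zariski local. -/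
theorem flc_of_forall_open {S : Scheme.{u}} (G : EtCoh.Ab S)
    (h : ∀ x : S, ∃ V : S.Opens, x ∈ V ∧ EtCoh.IsFiniteLocallyConstant ((EtCoh.pull V.ι).obj G)) :
    EtCoh.IsFiniteLocallyConstant G := by
  choose V hxV hflc using h
  choose κ W hW hM using hflc
  refine ⟨Σ x, κ x, fun p => Scheme.Etale.mk ((W p.1 p.2).hom ≫ (V p.1).ι), fun x => ?_, fun p => ?_⟩
  · obtain ⟨i, y, hy⟩ := hW x ⟨x, hxV x⟩
    refine ⟨⟨x, i⟩, y, ?_⟩
    exact congrArg (V x).ι hy
  · obtain ⟨M, inst, hfin, hM⟩ := hM p.1 p.2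
    refine ⟨M, inst, hfin, ?_⟩
    rw [GrothLib.LocConst.restr_iso_const_iff] at hM ⊢
    obtain ⟨e⟩ := hM
    exact ⟨(EtCore.pullComp (W p.1 p.2).hom (V p.1).ι).app G ≪≫ e⟩

/-- Direct images of finite locally constant sheaves along finite etale morphisms are finite locally
constant. -/
theorem flc_push (F : EtCoh.Ab U) (hF : EtCoh.IsFiniteLocallyConstant F) :
    EtCoh.IsFiniteLocallyConstant ((EtCoh.push j).obj F) := by
  haveI : EtShriek.JCont j := jcont j
  haveI := isIso_toPush j F
  refine flc_of_iso (asIso ((toPush j).app F)) (flc_of_forall_open _ fun x => ?_)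
  let k := Nat.card (Pts j (gpt x))
  let C : X.Opens := ⟨atLeast j k \ atLeast j (k + 1),
    (isOpen_atLeast j k).sdiff (isClosed_atLeast j (k + 1))⟩
  refine ⟨C, ⟨(mem_atLeast_iff' j k x).2 le_rfl, fun h => ?_⟩,
    flc_pull_extZero j F hF C.ι k fun t => t.2⟩
  have := (mem_atLeast_iff' j (k + 1) x).1 h
  lia

end GrothLib.Constructible
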