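import Groth.Agent.Lib.Constructible.FiniteStrata
import Groth.Agent.Lib.Constructible.FinEtalePush
import Groth.Agent.Lib.Unibranch.Unramified

/-!
# Direct images of constructible sheaves along finite etale morphisms
-/

universe u

open CategoryTheory CategoryTheory.Limits AlgebraicGeometry Opposite Topology
open GrothLib.EtSite GrothLib.ExtZero

set_option backward.isDefEq.respectTransparency.types false

noncomputable section

namespace GrothLib.Constructible

/-- On a reduced scheme, finite local constancy passes to morphisms landing in an immersion. -/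
theorem flc_pull_of_range_subset {V T X : Scheme.{u}} [IsReduced V] (b : V ⟶ X) (g : T ⟶ X)
    [IsImmersion g] (h : Set.range b ⊆ Set.range g) (F : EtCoh.Ab X)
    (hF : EtCoh.IsFiniteLocallyConstant ((EtCoh.pull g).obj F)) :
    EtCoh.IsFiniteLocallyConstant ((EtCoh.pull b).obj F) := by
  haveI : IsImmersion (pullback.fst b g) := MorphismProperty.pullback_fst _ _ inferInstance
  have hsurj : Surjective (pullback.fst b g) := ⟨fun v => by
    have : v ∈ Set.range (pullback.fst b g) := by
      rw [Scheme.Pullback.range_fst]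
      exact h (Set.mem_range_self v)
    exact this⟩
  haveI : IsClosedImmersion (pullback.fst b g) := IsClosedImmersion.of_isPreimmersion _ (by
    rw [Set.range_eq_univ.2 (pullback.fst b g).surjective]
    exact isClosed_univ)
  haveI := isIso_of_isClosedImmersion_of_surjective (pullback.fst b g)
  refine flc_of_fac (inv (pullback.fst b g) ≫ pullback.snd b g) g b ?_ F hF
  rw [Category.assoc, ← pullback.condition, IsIso.inv_hom_id_assoc]

theorem isConstructible_push_of_qcqs {X Y : Scheme.{u}} [CompactSpace Y] [QuasiSeparatedSpace Y]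
    (f : X ⟶ Y) [IsFinite f] [Etale f] [EtShriek.JCont f] (F : EtCoh.Ab X)
    (hF : EtPBC.IsConstructible F) :
    EtPBC.IsConstructible ((EtShriek.extZero f).obj F) := by
  classical
  haveI : CompactSpace X := QuasiCompact.compactSpace_of_compactSpace f
  haveI : QuasiSeparatedSpace X := quasiSeparatedSpace_of_quasiSeparated f
  obtain ⟨m, S, s, himm, hcons, -, hcov, hflc⟩ := (isConstructible_iff_univ F).1 hF
  have hcons' : ∀ k, IsConstructible (Set.range (s k)) := fun k =>
    (isConstructible_preimage_iff_of_isOpenEmbedding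
      (f := (Subtype.val : ↥(Set.univ : Set X) → X)) isOpen_univ.isOpenEmbedding_subtypeVal
      (by rw [Subtype.range_coe]; exact IsRetrocompact.univ)
      (by rw [Subtype.range_coe]; exact Set.subset_univ _)).1 (hcons k)
  choose O hO hsat using fun k => exists_generators (hcons' k)
  let P := Finset.univ.biUnion O
  have hP : ∀ o ∈ P, IsOpen o ∧ IsRetrocompact o := fun o ho => by
    obtain ⟨i, -, hi⟩ := Finset.mem_biUnion.1 ho
    exact hO i o hi
  let A : Fin P.card → X.Opens := fun c => ⟨(P.equivFin.symm c).1, (hP _ (P.equivFin.symm c).2).1⟩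
  haveI : ∀ c, CompactSpace (A c : Scheme.{u}) := fun c => isCompact_iff_compactSpace.1 (by
    have h := (hP _ (P.equivFin.symm c).2).2 (isCompact_univ) isOpen_univ
    rw [Set.inter_univ] at h
    exact h)
  obtain ⟨n, Z, g, hred, himm', hconsZ, -, hcovZ, hfin⟩ :=
    exists_strata_finite (fun c => (A c : Scheme.{u})) (fun c => (A c).ι ≫ f)
  rw [isConstructible_iff_univ]
  haveI := hred
  haveI := himm'
  refine adapted_of_pieces _ ⊤ Z g (fun i => Set.range (g i)) (fun i => le_rfl)
    (fun i => (⊤ : Y.Opens).ι.isConstructible_preimage (hconsZ i)) (fun y _ => hcovZ.ge (Set.mem_univ y))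
    fun i => ?_
  let f' : pullback (g i) f ⟶ Z i := pullback.fst (g i) f
  let g' : pullback (g i) f ⟶ X := pullback.snd (g i) f
  haveI : Etale f' := MorphismProperty.pullback_fst _ _ inferInstance
  haveI : IsFinite f' := MorphismProperty.pullback_fst _ _ inferInstance
  haveI : EtShriek.JCont f' := jcont f'
  obtain ⟨e⟩ := nonempty_extZero_baseChange f (g i) f' g' (IsPullback.of_hasPullback (g i) f)
  refine flc_of_iso (e.app F) ?_
  haveI := isIso_toPush f' ((EtCoh.pull g').obj F)
  refine flc_of_iso (asIso ((toPush f').app ((EtCoh.pull g').obj F))).symm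
    (flc_push f' _ ?_)
  have hclopen : ∀ c, IsClopen (g' ⁻¹' (A c : Set X)) := fun c => by
    refine ⟨?_, (A c).2.preimage g'.continuous⟩
    have sq := (isPullback_morphismRestrict g' (A c)).paste_vert (IsPullback.of_hasPullback (g i) f).flip
    haveI := hfin i c
    haveI : IsFinite ((g' ⁻¹ᵁ A c).ι ≫ f') := by
      have : (g' ⁻¹ᵁ A c).ι ≫ f' = sq.isoPullback.hom ≫ pullback.snd ((A c).ι ≫ f) (g i) :=
        sq.isoPullback_hom_snd.symm
      rw [this]
      infer_instance
    haveI : IsFinite (g' ⁻¹ᵁ A c).ι := IsFinite.of_comp _ f'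
    have := (g' ⁻¹ᵁ A c).ι.isClosedMap.isClosed_range
    rwa [Scheme.Opens.range_ι] at this
  haveI : IsReduced (pullback (g i) f) := GrothLib.Unibranch.isReduced_of_etale f'
  refine flc_of_forall_open _ fun x => ?_
  let V : (pullback (g i) f).Opens := ⟨⋂ c, if g' x ∈ A c then g' ⁻¹' (A c : Set X) else (g' ⁻¹' (A c : Set X))ᶜ,
    isOpen_iInter_of_finite fun c => by
      split_ifs
      · exact (hclopen c).2
      · exact (hclopen c).1.isOpen_compl⟩
  refine ⟨V, Set.mem_iInter.2 fun c => by split_ifs with h <;> exact h, ?_⟩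
  obtain ⟨k, hk⟩ := Set.mem_iUnion.1 (hcov.ge (Set.mem_univ (g' x)))
  refine flc_of_iso ((EtCore.pullComp V.ι g').app F) ?_
  refine flc_pull_of_range_subset (V.ι ≫ g') (s k) ?_ F (hflc k)
  rintro _ ⟨v, rfl⟩
  refine (hsat k (g' x) (g' (V.ι v)) fun o ho => ?_).1 hk
  have hoP : o ∈ P := Finset.mem_biUnion.2 ⟨k, Finset.mem_univ k, ho⟩
  have hA : (A (P.equivFin ⟨o, hoP⟩) : Set X) = o :=
    congrArg (fun z : P => z.1) (P.equivFin.symm_apply_apply ⟨o, hoP⟩)
  have hv := Set.mem_iInter.1 v.2 (P.equivFin ⟨o, hoP⟩)
  rw [← hA]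
  split_ifs at hv with h
  · exact ⟨fun _ => hv, fun _ => h⟩
  · exact ⟨fun h' => absurd h' h, fun h' => absurd h' hv⟩

/-- Direct images of constructible sheaves along finite etale morphisms are constructible. -/
theorem isConstructible_push {X Y : Scheme.{u}} (f : X ⟶ Y) [IsFinite f] [Etale f]
    (F : EtCoh.Ab X) (hF : EtPBC.IsConstructible F) :
    EtPBC.IsConstructible ((EtCoh.push f).obj F) := by
  haveI : EtShriek.JCont f := jcont f
  haveI := isIso_toPush f F
  refine isConstructible_openPart_separated.isConstructible_of_iso (asIso ((toPush f).app F)) ?_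
  refine isConstructible_of_cover _ (fun V : Y.affineOpens => V.1) ?_ fun V => ?_
  · exact iSup_affineOpens_eq_top Y
  · haveI : IsAffine (V.1 : Scheme.{u}) := V.2
    let f' : pullback V.1.ι f ⟶ V.1 := pullback.fst V.1.ι f
    let g' : pullback V.1.ι f ⟶ X := pullback.snd V.1.ι f
    haveI : Etale f' := MorphismProperty.pullback_fst _ _ inferInstance
    haveI : IsFinite f' := MorphismProperty.pullback_fst _ _ inferInstance
    haveI : EtShriek.JCont f' := jcont f'
    obtain ⟨e⟩ := nonempty_extZero_baseChange f V.1.ι f' g' (IsPullback.of_hasPullback V.1.ι f)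
    exact isConstructible_openPart_separated.isConstructible_of_iso (e.app F)
      (isConstructible_push_of_qcqs f' _ (isConstructible_pull g' F hF))

end GrothLib.Constructible
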