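import Groth.Agent.Lib.Constructible.ExtZero

/-!
# Extension by zero of a constant sheaf from a slice

`j_! M` formed on the slice over an etale `U` agrees with the extension by zero along `U → X` of
the constant sheaf; so it is constructible for quasi-compact quasi-separated `U` and `X`.
-/

universe u

open CategoryTheory CategoryTheory.Limits AlgebraicGeometry Opposite

set_option backward.isDefEq.respectTransparency.types false

noncomputable section

namespace GrothLib.Constructible

variable {S X : Scheme.{u}} (j : S ⟶ X) [Etale j]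

/-- The base object of `S` as an object over `X`. -/
def compTopIso : (EtShriek.compEtale j).obj (EtCoh.top S) ≅ Scheme.Etale.mk j :=
  MorphismProperty.Over.isoMk (Iso.refl _)
    ((Category.id_comp _).trans (Category.id_comp _).symm)

/-- The two extensions by zero of constant sheaves agree. -/
def extZeroConstIso [EtShriek.JCont j] :
    constantSheaf (X.smallEtaleTopology.over (Scheme.Etale.mk j)) AddCommGrpCat.{u + 1} ⋙
        EtPBC.extZero (Scheme.Etale.mk j) ≅
      constantSheaf S.smallEtaleTopology AddCommGrpCat.{u + 1} ⋙ EtShriek.extZero j :=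
  let R := (sheafSections X.smallEtaleTopology AddCommGrpCat.{u + 1}).obj (op (Scheme.Etale.mk j))
  let eT : EtShriek.restrAlong j ⋙ EtCore.gsec S ≅ R :=
    NatIso.ofComponents (fun G => G.obj.mapIso (compTopIso j).symm.op) (fun {G H} φ =>
      (φ.hom.naturality (compTopIso j).symm.op.hom).symm)
  let eO : X.smallEtaleTopology.overPullback AddCommGrpCat.{u + 1} (Scheme.Etale.mk j) ⋙
      (sheafSections (X.smallEtaleTopology.over (Scheme.Etale.mk j)) AddCommGrpCat.{u + 1}).obj
        (op (Over.mk (𝟙 (Scheme.Etale.mk j)))) ≅ R :=
    NatIso.ofComponents (fun G => Iso.refl _) (fun {G H} φ =>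
      (Category.comp_id _).trans (Category.id_comp _).symm)
  Adjunction.leftAdjointUniq
    (((constantSheafAdj (X.smallEtaleTopology.over (Scheme.Etale.mk j)) AddCommGrpCat.{u + 1}
      Over.mkIdTerminal).comp (EtPBC.extZeroAdj (Scheme.Etale.mk j))).ofNatIsoRight eO)
    (((EtCore.constAdj S).comp (EtShriek.extZeroAdj j)).ofNatIsoRight eT)

omit [Etale j] in
theorem isFiniteLocallyConstant_const (S : Scheme.{u}) (M : Type) [AddCommGroup M] [Finite M] :
    EtCoh.IsFiniteLocallyConstant ((constantSheaf S.smallEtaleTopology AddCommGrpCat.{u + 1}).obj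
      (AddCommGrpCat.of (ULift.{u + 1} M))) := by
  refine ⟨PUnit.{u + 1}, fun _ => EtCoh.top S, fun x => ⟨PUnit.unit, x, rfl⟩,
    fun _ => ⟨M, inferInstance, inferInstance, ?_⟩⟩
  rw [GrothLib.LocConst.restr_iso_const_iff]
  exact ⟨(EtCore.pullConstIso (EtCoh.top S).hom).app _⟩

theorem isConstructible_extZeroConst [CompactSpace X] [QuasiSeparatedSpace X]
    [CompactSpace S] [QuasiSeparatedSpace S] (M : Type) [AddCommGroup M] [Finite M] :
    EtPBC.IsConstructible (EtPBC.extZeroConst (Scheme.Etale.mk j) M) := by
  haveI : EtShriek.JCont j := jcont j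
  exact isConstructible_openPart_separated.isConstructible_of_iso
    ((extZeroConstIso j).app (AddCommGrpCat.of (ULift.{u + 1} M))).symm
    (isConstructible_extZero j _ (isFiniteLocallyConstant_const S M))

end GrothLib.Constructible
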