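import Groth.Agent.Lib.Constructible.Image
import Groth.Agent.Lib.LocConst.Connected

/-!
# Supports of constructible sheaves are locally constructible
-/

universe u

open CategoryTheory CategoryTheory.Limits AlgebraicGeometry Opposite Topology
open GrothLib.EtSite GrothLib.LocConst

set_option backward.isDefEq.respectTransparency.types false

noncomputable section

namespace GrothLib.Constructible

variable {X : Scheme.{u}}

theorem range_eq_singleton {Ω : Type u} [Field Ω] (ξ : Spec (CommRingCat.of Ω) ⟶ X) :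
    Set.range ξ = {ξ.base default} := by
  ext y
  exact ⟨fun ⟨p, hp⟩ => by rw [← hp, Subsingleton.elim p default]; rfl, fun h => ⟨default, h.symm⟩⟩

/-- Membership in the support along an immersion with finite locally constant inverse image. -/
theorem mem_supp_iff_chart {T : Scheme.{u}} (g : T ⟶ X) [IsImmersion g] (F : EtCoh.Ab X)
    (hflc : EtCoh.IsFiniteLocallyConstant ((EtCoh.pull g).obj F)) (t : T) :
    g.base t ∈ EtPBC.supp F ↔ ∃ (U : T.Etale) (u : U.left), U.hom.base u = t ∧
      ∃ (M : Type) (_ : AddCommGroup M) (_ : Nontrivial M)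
        (a : M →+ EtCoh.sect ((EtCoh.pull g).obj F) U), IsChart _ U a := by
  constructor
  · rintro ⟨Ω, _, _, ξ, hξ, hne⟩
    have ht : g.base t = ξ.base default := by
      have := Set.mem_range_self (f := ξ) default
      rw [hξ] at this
      exact this.symm
    obtain ⟨ζ, rfl, hζ⟩ := exists_point_lift g ξ t ht
    obtain ⟨U, s, M, _, _, a, ha⟩ := exists_chart ζ hflc
    refine ⟨U, s.left.base (default : Spec (CommRingCat.of Ω)), ?_, M, inferInstance, ?_, a, ha⟩
    · exact (congrArg (fun k : Spec (CommRingCat.of Ω) ⟶ T =>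
        k.base (default : Spec (CommRingCat.of Ω))) (Over.w s)).trans hζ
    · by_contra hM
      rw [not_nontrivial_iff_subsingleton] at hM
      haveI : Subsingleton ((EtCoh.stalk ζ).obj ((EtCoh.pull g).obj F)) :=
        (ha Ω ζ s).2.subsingleton
      exact hne (IsZero.of_iso (AddCommGrpCat.isZero_of_subsingleton
        ((EtCoh.stalk ζ).obj ((EtCoh.pull g).obj F))) ((pullStalkIso ζ g).app F).symm)
  · rintro ⟨U, u, rfl, M, _, _, a, ha⟩
    obtain ⟨s, -⟩ := exists_fib (gpt (U.hom.base u)) u (gpt_default _).symm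
    refine ⟨_, _, inferInstance, gpt (U.hom.base u) ≫ g, ?_, fun hz => ?_⟩
    · rw [range_eq_singleton]
      exact congrArg (fun y => ({g.base y} : Set X)) (gpt_default _)
    · haveI : Subsingleton ((EtCoh.stalk (gpt (U.hom.base u))).obj ((EtCoh.pull g).obj F)) :=
        AddCommGrpCat.subsingleton_of_isZero
          (IsZero.of_iso hz ((pullStalkIso (gpt (U.hom.base u)) g).app F))
      exact not_subsingleton M (ha _ _ s).1.subsingleton

theorem isClopen_preimage_supp {T : Scheme.{u}} (g : T ⟶ X) [IsImmersion g] (F : EtCoh.Ab X)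
    (hflc : EtCoh.IsFiniteLocallyConstant ((EtCoh.pull g).obj F)) :
    IsClopen (g ⁻¹' EtPBC.supp F) := by
  have hO : ∀ U : T.Etale, IsOpen (Set.range U.hom.base) := fun U => by
    haveI : Etale U.hom := U.prop
    exact U.hom.isOpenMap.isOpen_range
  constructor
  · rw [← isOpen_compl_iff, isOpen_iff_forall_mem_open]
    intro t ht
    obtain ⟨U, u, hu, M, _, _, a, ha⟩ := (flc_iff_charts _).1 hflc t
    refine ⟨Set.range U.hom.base, ?_, hO U, u, hu⟩
    rintro y ⟨v, hv⟩ hy
    obtain ⟨V, w, hw, N, _, _, b, hb⟩ := (mem_supp_iff_chart g F hflc y).1 hy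
    obtain ⟨e⟩ := nonempty_equiv_of_charts hb ha w v (hv.trans hw.symm)
    exact ht ((mem_supp_iff_chart g F hflc t).2 ⟨U, u, hu, M, inferInstance,
      e.toEquiv.nontrivial_congr.1 inferInstance, a, ha⟩)
  · rw [isOpen_iff_forall_mem_open]
    intro t ht
    obtain ⟨U, u, hu, M, _, _, a, ha⟩ := (mem_supp_iff_chart g F hflc t).1 ht
    refine ⟨Set.range U.hom.base, ?_, hO U, u, hu⟩
    rintro y ⟨v, hv⟩
    exact (mem_supp_iff_chart g F hflc y).2 ⟨U, v, hv, M, inferInstance, inferInstance, a, ha⟩

/-- The support of a constructible sheaf is locally constructible. -/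
theorem isLocallyConstructible_supp (F : EtCoh.Ab X) (hF : EtPBC.IsConstructible F) :
    IsLocallyConstructible (EtPBC.supp F) := fun x => by
  obtain ⟨V, hV, hxV, -⟩ := affine_nhd (X := X) isOpen_univ (Set.mem_univ x)
  refine ⟨(V : Set X), V.2.mem_nhds hxV, V.2, ?_⟩
  haveI : IsAffine (V : Scheme.{u}) := hV
  obtain ⟨n, T, g, himm, hcons, -, hcov, hflc⟩ := hF V hV
  have hsub : ∀ i, Set.range (g i) ⊆ Set.range V.ι := fun i => by
    rw [Scheme.Opens.range_ι]
    exact range_immersion_subset (F := F) hcov i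
  let g' : ∀ i, T i ⟶ (V : Scheme.{u}) := fun i => IsOpenImmersion.lift V.ι (g i) (hsub i)
  have hg' : ∀ i, g' i ≫ V.ι = g i := fun i => IsOpenImmersion.lift_fac _ _ _
  haveI : ∀ i, IsImmersion (g' i) := fun i => by
    haveI := himm i
    haveI : IsImmersion (g' i ≫ V.ι) := by rw [hg' i]; infer_instance
    exact IsImmersion.of_comp (g' i) V.ι
  have hr : ∀ i, Set.range (g' i) = V.ι ⁻¹' Set.range (g i) := fun i => by
    rw [← hg' i]
    ext z
    exact ⟨fun ⟨t, ht⟩ => ⟨t, congrArg V.ι ht⟩,
      fun ⟨t, ht⟩ => ⟨t, V.ι.isOpenEmbedding.injective ht⟩⟩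
  have hgc : ∀ i, IsConstructible (Set.range (g' i)) := fun i => by
    rw [hr i]
    exact hcons i
  have hS : V.ι ⁻¹' EtPBC.supp F = ⋃ i, g' i '' (g i ⁻¹' EtPBC.supp F) := by
    ext z
    simp only [Set.mem_iUnion]
    constructor
    · intro hz
      obtain ⟨i, t, ht⟩ := Set.mem_iUnion.1 (hcov.ge z.2)
      refine ⟨i, t, ?_, V.ι.isOpenEmbedding.injective
        ((congrArg (fun k : T i ⟶ X => k t) (hg' i)).trans ht)⟩
      change g i t ∈ EtPBC.supp F
      rw [ht]
      exact hz
    · rintro ⟨i, t, ht, rfl⟩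
      have e : V.ι (g' i t) = g i t := congrArg (fun k : T i ⟶ X => k t) (hg' i)
      change V.ι (g' i t) ∈ EtPBC.supp F
      rw [e]
      exact ht
  change IsConstructible (V.ι ⁻¹' EtPBC.supp F)
  rw [hS]
  refine IsConstructible.iUnion fun i => isConstructible_image_immersion (g' i) (hgc i) ?_
  haveI := compactSpace_of_isConstructible_range (g' i) (hgc i)
  haveI : QuasiSeparatedSpace (T i) := quasiSeparatedSpace_of_quasiSeparated (g' i)
  haveI := himm i
  have hcl := isClopen_preimage_supp (g i) F (hflc i)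
  exact (hcl.1.isCompact.isRetrocompact hcl.2).isConstructible hcl.2

end GrothLib.Constructible
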