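import Groth.Agent.Lib.Constructible.Noetherian
import Groth.Agent.Lib.Constructible.Supp
import Mathlib.CategoryTheory.Subobject.NoetherianObject
import Mathlib.Order.OrderIsoNat
import Mathlib.Data.Fintype.Order

/-!
# Constructible sheaves on Noetherian schemes are Noetherian objects
-/

universe u

open CategoryTheory CategoryTheory.Limits AlgebraicGeometry Opposite Topology
open GrothLib.EtSite GrothLib.LocConst

set_option backward.isDefEq.respectTransparency.types false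

noncomputable section

namespace GrothLib.Constructible

variable {X : Scheme.{u}}

/-- A map into a sheaf with charts vanishing at a generic point vanishes. -/
theorem map_eq_zero_of_generic_charts {H Q : EtCoh.Ab X} (φ : H ⟶ Q)
    (hQ : ∀ (Ω : Type u) [Field Ω] [IsSepClosed Ω] (η : Spec (CommRingCat.of Ω) ⟶ X),
      ∃ (U : X.Etale) (_ : (Scheme.pointSmallEtale η).fiber.obj U) (M : Type (u + 1))
        (_ : AddCommGroup M) (a : M →+ EtCoh.sect Q U), IsChart Q U a) (t : X)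
    (hgen : ∀ O : Set X, IsOpen O → O.Nonempty → t ∈ O)
    {K : Type u} [Field K] [IsSepClosed K] (τ₀ : Spec (CommRingCat.of K) ⟶ X)
    (hτ : τ₀.base default = t) (hz : (EtCoh.stalk τ₀).map φ = 0) : φ = 0 := by
  refine ExtZero.zero_of_stalks φ fun Ω _ _ η => ?_
  ext p
  obtain ⟨U, s, M, _, a, ha⟩ := hQ Ω η
  obtain ⟨W, w, z, rfl⟩ := exists_germ η H p
  obtain ⟨V, v, g, h, hg, hh⟩ := exists_refine₂ η w s
  have ha' := ha.map h
  let a' : M →+ EtCoh.sect Q V := (Q.obj.map h.op).hom.comp a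
  obtain ⟨m, hm⟩ := (ha' Ω η v).2 (germ η Q v (φ.hom.app (op V) (H.obj.map g.op z)))
  obtain ⟨V', k, v', hv', he⟩ := (germ_eq_iff η Q v _ _).1 hm
  haveI : Etale V'.hom := V'.prop
  obtain ⟨y, hy⟩ := hgen _ V'.hom.isOpenMap.isOpen_range
    (Set.range_nonempty_iff_nonempty.2 ⟨v'.left.base (default : Spec (CommRingCat.of Ω))⟩)
  obtain ⟨τ, -⟩ := exists_fib τ₀ y (hy.trans hτ.symm)
  have h0 : germ τ₀ Q τ (Q.obj.map k.op (a' m)) = 0 := by
    refine (congrArg (germ τ₀ Q τ) he).trans ?_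
    rw [← NatTrans.naturality_apply, ← stalk_map_germ, hz]
    rfl
  have hm0 : m = 0 := ((ha'.map k) _ τ₀ τ).1 (h0.trans (by simp))
  rw [← hg, ← germ_map η H g v z]
  refine (stalk_map_germ η φ v _).trans (hm.symm.trans ?_)
  subst hm0
  simp

/-- A map into a finite locally constant sheaf vanishing at a generic point vanishes. -/
theorem map_eq_zero_of_generic {H Q : EtCoh.Ab X} (φ : H ⟶ Q)
    (hQ : EtCoh.IsFiniteLocallyConstant Q) (t : X)
    (hgen : ∀ O : Set X, IsOpen O → O.Nonempty → t ∈ O)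
    {K : Type u} [Field K] [IsSepClosed K] (τ₀ : Spec (CommRingCat.of K) ⟶ X)
    (hτ : τ₀.base default = t) (hz : (EtCoh.stalk τ₀).map φ = 0) : φ = 0 :=
  map_eq_zero_of_generic_charts φ (fun Ω _ _ η => by
    obtain ⟨U, s, M, _, _, a, ha⟩ := exists_chart η hQ
    exact ⟨U, s, ULift.{u + 1} M, inferInstance, _, ha.comp_equiv AddEquiv.ulift⟩) t hgen τ₀ hτ hz

/-- Vanishing of a stalk map of an inverse image. -/
theorem stalk_pull_map_eq_zero {T : Scheme.{u}} (g : T ⟶ X) {Ω : Type u} [Field Ω] [IsSepClosed Ω]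
    (ζ : Spec (CommRingCat.of Ω) ⟶ T) {F G : EtCoh.Ab X} (φ : F ⟶ G) :
    (EtCoh.stalk ζ).map ((EtCoh.pull g).map φ) = 0 ↔ (EtCoh.stalk (ζ ≫ g)).map φ = 0 := by
  have e := (pullStalkIso ζ g).hom.naturality φ
  constructor
  · intro h
    change (EtCoh.stalk ζ).map ((EtCoh.pull g).map φ) ≫ _ = _ at e
    rw [h, zero_comp] at e
    exact (cancel_epi ((pullStalkIso ζ g).hom.app F)).1 (e.symm.trans comp_zero.symm)
  · intro h
    change (EtCoh.stalk ζ).map ((EtCoh.pull g).map φ) ≫ _ = _ at e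
    rw [h, comp_zero] at e
    exact (cancel_mono ((pullStalkIso ζ g).hom.app G)).1 (e.trans zero_comp.symm)

/-- Geometric stalks of constructible sheaves are finite. -/
theorem finite_stalk (F : EtCoh.Ab X) (hF : EtPBC.IsConstructible F) {Ω : Type u} [Field Ω]
    [IsSepClosed Ω] (ξ : Spec (CommRingCat.of Ω) ⟶ X) : Finite ((EtCoh.stalk ξ).obj F) := by
  obtain ⟨U, hU, hxU, -⟩ := affine_nhd (X := X) isOpen_univ (Set.mem_univ (ξ.base default))
  obtain ⟨n, T, g, himm, -, -, hcov, hflc⟩ := hF U hU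
  obtain ⟨i, t, ht⟩ := Set.mem_iUnion.1 (hcov.ge hxU)
  haveI := himm i
  obtain ⟨ζ, hζ, -⟩ := exists_point_lift (g i) ξ t ht
  subst hζ
  obtain ⟨V, s, M, _, _, a, ha⟩ := exists_chart ζ (hflc i)
  haveI : Finite ((EtCoh.stalk ζ).obj ((EtCoh.pull (g i)).obj F)) :=
    Finite.of_surjective _ (ha Ω ζ s).2
  haveI : Finite ((EtCoh.pull (g i) ⋙ EtCoh.stalk ζ).obj F) :=
    (inferInstance : Finite ((EtCoh.stalk ζ).obj ((EtCoh.pull (g i)).obj F)))
  exact Finite.of_equiv _ (((pullStalkIso ζ (g i)).app F).addCommGroupIsoToAddEquiv).toEquiv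

/-- The map comparing two subobjects. -/
def chainMap {F : EtCoh.Ab X} (c : ℕ →o Subobject F) (k m : ℕ) :
    ((c m : Subobject F) : EtCoh.Ab X) ⟶ cokernel (c k).arrow :=
  (c m).arrow ≫ cokernel.π (c k).arrow

/-- Chains are stable on a neighbourhood in each point closure. -/
theorem exists_stable_piece [IsLocallyNoetherian X] (F : EtCoh.Ab X)
    (hF : EtPBC.IsConstructible F) (c : ℕ →o Subobject F) (x : X) :
    ∃ (V : X.Opens) (k : ℕ), x ∈ V ∧ ∀ m, k ≤ m → ∀ (Ω : Type u) [Field Ω] [IsSepClosed Ω]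
      (ξ : Spec (CommRingCat.of Ω) ⟶ X), ξ.base default ∈ (V : Set X) ∩ closure {x} →
        (EtCoh.stalk ξ).map (chainMap c k m) = 0 := by
  obtain ⟨V, T, g, himm, hxV, hrange, hflc⟩ := generic_of_isConstructible F hF x
  haveI := himm
  obtain ⟨t, ht⟩ : x ∈ Set.range g.base := hrange.ge ⟨hxV, subset_closure rfl⟩
  have hgen : ∀ O : Set T, IsOpen O → O.Nonempty → t ∈ O := fun O hO ⟨y, hy⟩ => by
    obtain ⟨W, hW, rfl⟩ := g.isEmbedding.isInducing.isOpen_iff.1 hO
    obtain ⟨z, hz, rfl⟩ := mem_closure_iff.1 (hrange.le ⟨y, rfl⟩).2 W hW hy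
    change g t ∈ W
    rw [ht]
    exact hz
  let ξ0 := gpt t ≫ g
  haveI := finite_stalk F hF ξ0
  let R : ℕ → Set ((EtCoh.stalk ξ0).obj F) := fun m => Set.range ((EtCoh.stalk ξ0).map (c m).arrow)
  have hR : Monotone R := fun a b hab => by
    rintro _ ⟨p, rfl⟩
    refine ⟨(EtCoh.stalk ξ0).map (Subobject.ofLE _ _ (c.monotone hab)) p, ?_⟩
    rw [← ConcreteCategory.comp_apply, ← Functor.map_comp, Subobject.ofLE_arrow]
  obtain ⟨k, hk⟩ := WellFoundedGT.monotone_chain_condition (⟨R, hR⟩ : ℕ →o Set _)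
  haveI := pull_map_mono g (c k).arrow
  obtain ⟨O, htO, hO⟩ := exists_flc_nhd_sub ((EtCoh.pull g).map (c k).arrow) hflc t hgen
  let b : (O : Scheme.{u}) ⟶ X := O.ι ≫ g
  have h1 : EtCoh.IsFiniteLocallyConstant ((EtCoh.pull b).obj (c k : EtCoh.Ab X)) :=
    flc_of_iso ((EtCore.pullComp O.ι g).app _).symm hO
  have h2 : EtCoh.IsFiniteLocallyConstant ((EtCoh.pull b).obj F) := flc_of_fac O.ι g b rfl F hflc
  let S : ShortComplex (EtCoh.Ab X) :=
    ShortComplex.mk (c k).arrow (cokernel.π (c k).arrow) (cokernel.condition _)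
  haveI : Epi (S.map (EtCoh.pull b)).g :=
    inferInstanceAs (Epi ((EtCoh.pull b).map (cokernel.π (c k).arrow)))
  have h3 : EtCoh.IsFiniteLocallyConstant ((EtCoh.pull b).obj (cokernel (c k).arrow)) :=
    flc_right (S.map (EtCoh.pull b)) (pull_exact b S (ShortComplex.exact_cokernel _)) h1 h2
  obtain ⟨W, hW, hWO⟩ := g.isEmbedding.isInducing.isOpen_iff.1 O.2
  have hxW : x ∈ W := ht ▸ (hWO.ge htO : t ∈ g ⁻¹' W)
  refine ⟨V ⊓ ⟨W, hW⟩, k, ⟨hxV, hxW⟩, fun m hm Ω _ _ ξ hξ => ?_⟩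
  obtain ⟨y, hy⟩ : ξ.base default ∈ Set.range g.base := hrange.ge ⟨hξ.1.1, hξ.2⟩
  have hyO : y ∈ O := hWO.le (show g y ∈ W from hy ▸ hξ.1.2)
  let tO : ↥(O : Scheme.{u}) := ⟨t, htO⟩
  have hgenO : ∀ O' : Set ↥(O : Scheme.{u}), IsOpen O' → O'.Nonempty → tO ∈ O' := fun O' hO' ⟨z, hz⟩ => by
    obtain ⟨z', hz', he⟩ := hgen _ (O.ι.isOpenEmbedding.isOpenMap _ hO') ⟨_, z, hz, rfl⟩
    have e' : z' = tO := O.ι.isOpenEmbedding.injective (he : O.ι z' = O.ι tO)
    exact e' ▸ hz'
  have hbt : b tO = x := ht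
  obtain ⟨τ₀, hτ₀, hτ₀t⟩ := exists_point_lift O.ι (gpt t) tO (gpt_default t).symm
  have hzero : (EtCoh.pull b).map (chainMap c k m) = 0 := by
    refine map_eq_zero_of_generic _ h3 tO hgenO τ₀ hτ₀t ?_
    rw [stalk_pull_map_eq_zero]
    have e : τ₀ ≫ b = ξ0 := (Category.assoc _ _ _).symm.trans (congrArg (· ≫ g) hτ₀)
    rw [e]
    ext p
    obtain ⟨q, hq⟩ : (EtCoh.stalk ξ0).map (c m).arrow p ∈ R k :=
      (hk m hm).ge ⟨p, rfl⟩
    rw [chainMap, Functor.map_comp, ConcreteCategory.comp_apply, ← hq, ← ConcreteCategory.comp_apply,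
      ← Functor.map_comp, cokernel.condition, Functor.map_zero]
    rfl
  obtain ⟨ζ, hζ, hζy⟩ := exists_point_lift b ξ ⟨y, hyO⟩ hy
  subst hζ
  rw [← stalk_pull_map_eq_zero, hzero, Functor.map_zero]

/-- Constructible sheaves on a Noetherian scheme satisfy the ascending chain condition. -/
theorem chain_eventually_constant [IsNoetherian X] (F : EtCoh.Ab X)
    (hF : EtPBC.IsConstructible F) (c : ℕ →o Subobject F) :
    ∃ N, ∀ m, N ≤ m → c m = c N := by
  classical
  choose V k hxV hk using exists_stable_piece F hF c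
  have hcons : ∀ x, IsConstructible ((V x : Set X) ∩ closure {x}) := fun x => by
    refine IsConstructible.inter (isConstructible_of_isOpen_of_noetherian (V x).2) ?_
    exact IsConstructible.of_compl
      (isConstructible_of_isOpen_of_noetherian isClosed_closure.isOpen_compl)
  obtain ⟨t, ht⟩ := @IsCompact.elim_finite_subcover X (constructibleTopology _) Set.univ _
    (GrothLib.Constr.isCompact_constructibleTopology_of_isClosed
      (@isClosed_univ X (constructibleTopology _)))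
    (fun x => (V x : Set X) ∩ closure {x})
    (fun x => (GrothLib.Constr.isOpen_constructibleTopology_of_isConstructible (hcons x)).1)
    (fun x _ => Set.mem_iUnion.2 ⟨x, hxV x, subset_closure rfl⟩)
  refine ⟨t.sup k, fun m hm => le_antisymm ?_ (c.monotone hm)⟩
  have h0 : (c m).arrow ≫ cokernel.π (c (t.sup k)).arrow = 0 := by
    refine ExtZero.zero_of_stalks _ fun Ω _ _ ξ => ?_
    obtain ⟨x, hx, hξ⟩ := Set.mem_iUnion₂.1 (ht (Set.mem_univ (ξ.base default)))
    have h := hk x m ((Finset.le_sup hx).trans hm) Ω ξ hξ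
    have hle : k x ≤ t.sup k := Finset.le_sup hx
    have hfac : (c m).arrow ≫ cokernel.π (c (t.sup k)).arrow = chainMap c (k x) m ≫
        cokernel.desc _ (cokernel.π (c (t.sup k)).arrow) (by
          rw [← Subobject.ofLE_arrow (c.monotone hle), Category.assoc, cokernel.condition,
            comp_zero]) := by
      rw [chainMap, Category.assoc, cokernel.π_desc]
    rw [hfac, Functor.map_comp, h, zero_comp]
  exact Subobject.le_of_comm (Abelian.monoLift _ _ h0) (Abelian.monoLift_comp _ _ h0)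

theorem isNoetherianObject [IsNoetherian X] (F : EtCoh.Ab X) (hF : EtPBC.IsConstructible F) :
    IsNoetherianObject F :=
  (isNoetherianObject_iff_monotone_chain_condition F).2 fun c => by
    obtain ⟨N, hN⟩ := chain_eventually_constant F hF c
    exact ⟨N, fun m hm => (hN m hm).symm⟩

end GrothLib.Constructible
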