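import Groth.Agent.Lib.Constructible.Serre
import Groth.Agent.Lib.Constructible.Image
import Groth.Agent.Lib.LocConst.Generic
import Mathlib.AlgebraicGeometry.Noetherian

/-!
# Constructible sheaves on locally Noetherian schemes

Constructibility is finite local constancy on an open piece of each point closure; subsheaves and
quotients of constructible sheaves are constructible.
-/

universe u

open CategoryTheory CategoryTheory.Limits AlgebraicGeometry Opposite Topology

set_option backward.isDefEq.respectTransparency.types false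

noncomputable section

namespace GrothLib.Constructible

variable {X : Scheme.{u}}

/-- The condition of the pointwise criterion. -/
def GenericFLC (F : EtCoh.Ab X) (x : X) : Prop :=
  ∃ (V : X.Opens) (T : Scheme.{u}) (g : T ⟶ X), IsImmersion g ∧ x ∈ V ∧
    Set.range g.base = (V : Set X) ∩ closure {x} ∧
    EtCoh.IsFiniteLocallyConstant ((EtCoh.pull g).obj F)

theorem isConstructible_of_isOpen_of_noetherian {α : Type*} [TopologicalSpace α]
    [TopologicalSpace.NoetherianSpace α] {O : Set α} (hO : IsOpen O) :
    Topology.IsConstructible O :=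
  IsRetrocompact.isConstructible hO (fun _ _ _ => TopologicalSpace.NoetherianSpace.isCompact _)

/-- Pointwise criterion for constructibility. -/
theorem isConstructible_of_generic [IsLocallyNoetherian X] (F : EtCoh.Ab X)
    (h : ∀ x, GenericFLC F x) : EtPBC.IsConstructible F := fun U hU => by
  haveI : IsAffine (U : Scheme.{u}) := hU
  haveI : IsNoetherian (U : Scheme.{u}) := {}
  haveI : TopologicalSpace.NoetherianSpace ↥(U : Scheme.{u}) := inferInstance
  choose V T g himm hxV hrange hflc using fun x : ↥(U : Scheme.{u}) => h (U.ι x)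
  have hcons : ∀ x, IsConstructible (U.ι ⁻¹' Set.range (g x)) := fun x => by
    rw [hrange x, Set.preimage_inter]
    refine IsConstructible.inter ?_ ?_
    · exact isConstructible_of_isOpen_of_noetherian ((V x).2.preimage U.ι.continuous)
    · refine IsConstructible.of_compl ?_
      exact isConstructible_of_isOpen_of_noetherian
        (isClosed_closure.preimage U.ι.continuous).isOpen_compl
  obtain ⟨t, ht⟩ := @IsCompact.elim_finite_subcover ↥(U : Scheme.{u}) (constructibleTopology _) Set.univ _
    (GrothLib.Constr.isCompact_constructibleTopology_of_isClosed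
      (@isClosed_univ ↥(U : Scheme.{u}) (constructibleTopology _)))
    (fun x => U.ι ⁻¹' Set.range (g x))
    (fun x => (GrothLib.Constr.isOpen_constructibleTopology_of_isConstructible (hcons x)).1)
    (fun x _ => Set.mem_iUnion.2 ⟨x, by
      rw [Set.mem_preimage, hrange x]
      exact ⟨hxV x, subset_closure rfl⟩⟩)
  let e := t.equivFin.symm
  exact adapted_of_pieces F U (fun k : Fin t.card => T (e k).1) (fun k => g (e k).1)
    (fun k => Set.range (g (e k).1)) (fun k => le_rfl) (fun k => hcons _)
    (fun x hx => by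
      obtain ⟨i, hi, hxi⟩ := Set.mem_iUnion₂.1 (ht (Set.mem_univ (⟨x, hx⟩ : ↥(U : Scheme.{u}))))
      obtain ⟨k, hk⟩ := e.surjective ⟨i, hi⟩
      exact Set.mem_iUnion.2 ⟨k, by rw [show (e k).1 = i from congrArg Subtype.val hk]; exact hxi⟩)
    (fun k => hflc _)

/-- Constructible sheaves satisfy the pointwise criterion. -/
theorem generic_of_isConstructible [IsLocallyNoetherian X] (F : EtCoh.Ab X)
    (hF : EtPBC.IsConstructible F) (x : X) : GenericFLC F x := by
  obtain ⟨U, hU, hxU, -⟩ := affine_nhd (X := X) isOpen_univ (Set.mem_univ x)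
  obtain ⟨n, T, g, himm, -, -, hcov, hflc⟩ := hF U hU
  obtain ⟨i, t, ht⟩ := Set.mem_iUnion.1 (hcov.ge hxU)
  haveI := himm i
  let Z : TopologicalSpace.Closeds ↥(T i) :=
    ⟨(g i) ⁻¹' closure {x}, isClosed_closure.preimage (g i).continuous⟩
  let I := Scheme.IdealSheafData.vanishingIdeal Z
  refine ⟨U ⊓ (g i).coborderRange, I.subscheme, I.subschemeι ≫ g i, inferInstance,
    ⟨hxU, subset_coborder ⟨t, ht⟩⟩, ?_, flc_of_fac I.subschemeι (g i) _ rfl F (hflc i)⟩
  have hr : Set.range (I.subschemeι ≫ g i) = g i '' (g i ⁻¹' closure {x}) := by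
    rw [show Set.range (I.subschemeι ≫ g i) = g i '' Set.range I.subschemeι from
      Set.range_comp (g i) I.subschemeι, Scheme.IdealSheafData.range_subschemeι,
      Scheme.IdealSheafData.coe_support_vanishingIdeal]
    rfl
  refine hr.trans ?_
  rw [Set.image_preimage_eq_inter_range]
  ext y
  constructor
  · rintro ⟨hy, hy'⟩
    exact ⟨⟨range_immersion_subset (F := F) hcov i hy', subset_coborder hy'⟩, hy⟩
  · rintro ⟨⟨-, hy⟩, hy'⟩
    refine ⟨hy', ?_⟩
    have : y ∈ closure (Set.range (g i)) :=
      closure_mono (Set.singleton_subset_iff.2 (show x ∈ Set.range (g i) from ⟨t, ht⟩)) hy'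
    exact (coborder_inter_closure (s := Set.range (g i))).le
      (show y ∈ coborder (Set.range (g i)) ∩ closure (Set.range (g i)) from ⟨hy, this⟩)

theorem isConstructible_iff_generic [IsLocallyNoetherian X] (F : EtCoh.Ab X) :
    EtPBC.IsConstructible F ↔ ∀ x, GenericFLC F x :=
  ⟨generic_of_isConstructible F, isConstructible_of_generic F⟩

/-- Subsheaves of constructible sheaves are constructible. -/
theorem isConstructible_sub [IsLocallyNoetherian X] {F G : EtCoh.Ab X} (i : G ⟶ F) [Mono i]
    (hF : EtPBC.IsConstructible F) : EtPBC.IsConstructible G :=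
  isConstructible_of_generic G fun x => by
    obtain ⟨V, T, g, himm, hxV, hrange, hflc⟩ := generic_of_isConstructible F hF x
    haveI := himm
    obtain ⟨t, ht⟩ : x ∈ Set.range g.base := hrange.ge ⟨hxV, subset_closure rfl⟩
    have hgen : ∀ O : Set T, IsOpen O → O.Nonempty → t ∈ O := fun O hO ⟨y, hy⟩ => by
      obtain ⟨W, hW, rfl⟩ := g.isEmbedding.isInducing.isOpen_iff.1 hO
      obtain ⟨z, hz, rfl⟩ := mem_closure_iff.1 (hrange.le ⟨y, rfl⟩).2 W hW hy
      change g t ∈ W
      rw [ht]
      exact hz
    haveI := GrothLib.EtSite.pull_map_mono g i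
    obtain ⟨O, htO, hO⟩ :=
      GrothLib.LocConst.exists_flc_nhd_sub ((EtCoh.pull g).map i) hflc t hgen
    obtain ⟨W, hW, hWO⟩ := g.isEmbedding.isInducing.isOpen_iff.1 O.2
    refine ⟨V ⊓ ⟨W, hW⟩, O, O.ι ≫ g, inferInstance,
      ⟨hxV, ht ▸ (hWO.ge htO : t ∈ g ⁻¹' W)⟩, ?_,
      flc_of_iso ((EtCore.pullComp O.ι g).app G).symm hO⟩
    have hr : Set.range (O.ι ≫ g) = g '' (O : Set T) := by
      rw [show Set.range (O.ι ≫ g) = g '' Set.range O.ι from Set.range_comp g O.ι,
        Scheme.Opens.range_ι]
    refine hr.trans ?_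
    rw [show (O : Set T) = g ⁻¹' W from hWO.symm, Set.image_preimage_eq_inter_range, show Set.range g = Set.range g.base from rfl, hrange]
    ext y
    exact ⟨fun ⟨hw, hv, hc⟩ => ⟨⟨hv, hw⟩, hc⟩, fun ⟨⟨hv, hw⟩, hc⟩ => ⟨hw, hv, hc⟩⟩

/-- Quotients of constructible sheaves are constructible. -/
theorem isConstructible_quot [IsLocallyNoetherian X] {F Q : EtCoh.Ab X} (p : F ⟶ Q) [Epi p]
    (hF : EtPBC.IsConstructible F) : EtPBC.IsConstructible Q := by
  let S : ShortComplex (EtCoh.Ab X) := ShortComplex.mk (kernel.ι p) p (kernel.condition p)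
  haveI : Epi S.g := inferInstanceAs (Epi p)
  exact isConstructible_right S (ShortComplex.exact_kernel p)
    (isConstructible_sub (kernel.ι p) hF) hF

end GrothLib.Constructible
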