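import Groth.Agent.Lib.Constructible.Noetherian
import Groth.Prelude.Def_ARSys
import Mathlib.RingTheory.Ideal.Span

/-!
# Adic systems with constructible first member consist of constructible sheaves
-/

universe u

open CategoryTheory CategoryTheory.Limits AlgebraicGeometry Opposite

set_option backward.isDefEq.respectTransparency.types false

noncomputable section

namespace GrothLib.Constructible

theorem isConstructible_of_isAdic (a : ℤ) {X : Scheme.{u}} [IsLocallyNoetherian X]
    (F : ARSys.PS (EtCoh.Ab X)) (hF : ARSys.IsAdic (Ideal.span {a}) F)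
    (h0 : EtPBC.IsConstructible (F.obj (op 0))) (n : ℕ) :
    EtPBC.IsConstructible (F.obj (op n)) := by
  induction n with
  | zero => exact h0
  | succ n ih =>
    obtain ⟨hk, hq⟩ := hF
    let t := ARSys.tr F (Nat.le_succ n)
    let t0 := ARSys.tr F (Nat.zero_le (n + 1))
    have hepi : ∀ {m k : ℕ} (h : m ≤ k), Epi (ARSys.tr F h) := fun {m k} h => ⟨fun {Z} f g e => by
      refine ((hq m k h).2 Z (ARSys.tr F h ≫ g) ?_).unique e rfl
      intro b hb
      rw [← Linear.comp_smul]
      have : b • g = (b • 𝟙 (F.obj (op m))) ≫ g := by rw [Linear.smul_comp, Category.id_comp]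
      rw [this, (hq m k h).1 b hb, zero_comp, comp_zero]⟩
    obtain ⟨φ, hφ, -⟩ := (hq 0 (n + 1) (Nat.zero_le _)).2 (F.obj (op (n + 1)))
      (a ^ (n + 1) • 𝟙 _) fun b hb => by
        rw [zero_add, pow_one, Ideal.mem_span_singleton] at hb
        obtain ⟨c, rfl⟩ := hb
        rw [smul_smul, show a * c * a ^ (n + 1) = c * a ^ (n + 2) by ring]
        refine hk (n + 1) _ ?_
        rw [Ideal.span_singleton_pow, Ideal.mem_span_singleton]
        exact ⟨c, mul_comm _ _⟩
    have hw : φ ≫ t = 0 := by
      haveI := hepi (Nat.zero_le (n + 1))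
      rw [← cancel_epi t0, ← Category.assoc, hφ, Linear.smul_comp, Category.id_comp, comp_zero]
      have h := (hq n (n + 1) (Nat.le_succ n)).1 (a ^ (n + 1))
        (by rw [Ideal.span_singleton_pow]; exact Ideal.mem_span_singleton_self _)
      rw [← Category.comp_id t, ← Linear.comp_smul, h, comp_zero]
    haveI : Epi t := hepi _
    let S : ShortComplex (EtCoh.Ab X) := ShortComplex.mk φ t hw
    have hS : S.Exact := by
      refine S.exact_of_g_is_cokernel (CokernelCofork.IsColimit.ofπ' t hw fun {Z} k hk' => ?_)
      refine Classical.indefiniteDescription _ ((hq n (n + 1) (Nat.le_succ n)).2 Z k fun b hb => ?_).exists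
      rw [Ideal.span_singleton_pow, Ideal.mem_span_singleton] at hb
      obtain ⟨c, rfl⟩ := hb
      have hφk : a ^ (n + 1) • k = 0 := by
        rw [← Category.id_comp k, ← Linear.smul_comp, ← hφ, Category.assoc, hk', comp_zero]
      rw [mul_comm, ← smul_smul, hφk, smul_zero]
    have hker : EtPBC.IsConstructible (kernel t) := by
      haveI : Epi (kernel.lift t φ hw) := S.exact_iff_epi_kernel_lift.1 hS
      exact isConstructible_quot (kernel.lift t φ hw) h0
    let T : ShortComplex (EtCoh.Ab X) := ShortComplex.mk (kernel.ι t) t (kernel.condition t)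
    haveI : Mono T.f := inferInstanceAs (Mono (kernel.ι t))
    haveI : Epi T.g := inferInstanceAs (Epi t)
    exact isConstructible_middle T ⟨ShortComplex.exact_kernel t⟩ hker ih

end GrothLib.Constructible
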