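import Groth.Agent.Lib.Constructible.Chain
import Mathlib.CategoryTheory.Limits.FunctorCategory.Basic

/-!
# Subsheaves of constant sheaves on irreducible schemes
-/

universe u

open CategoryTheory CategoryTheory.Limits AlgebraicGeometry Opposite
open GrothLib.EtSite GrothLib.LocConst

set_option backward.isDefEq.respectTransparency.types false

noncomputable section

namespace GrothLib.Constructible

variable {X : Scheme.{u}}

theorem exists_chart_const (N : AddCommGrpCat.{u + 1}) {Ω : Type u} [Field Ω] [IsSepClosed Ω]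
    (η : Spec (CommRingCat.of Ω) ⟶ X) :
    ∃ (U : X.Etale) (_ : (Scheme.pointSmallEtale η).fiber.obj U) (M : Type (u + 1))
      (_ : AddCommGroup M)
      (a : M →+ EtCoh.sect ((constantSheaf X.smallEtaleTopology AddCommGrpCat.{u + 1}).obj N) U),
      IsChart _ U a := by
  obtain ⟨a, ha⟩ := (iso_const_iff _ N).1
    ⟨Iso.refl ((constantSheaf X.smallEtaleTopology AddCommGrpCat.{u + 1}).obj N)⟩
  refine ⟨EtCoh.top X, topFib η, N, inferInstance, a.hom, fun Ω' _ _ ξ t => ?_⟩
  have ht : t = topFib ξ := by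
    have h := fiber_map_from_top ξ (𝟙 (EtCoh.top X)) t
    rwa [CategoryTheory.Functor.map_id] at h
  subst ht
  exact ha Ω' ξ

theorem const_map_comp_zero {A B C : AddCommGrpCat.{u + 1}} (f : A ⟶ B) (g : B ⟶ C)
    (w : f ≫ g = 0) :
    (constantSheaf X.smallEtaleTopology AddCommGrpCat.{u + 1}).map f ≫
      (constantSheaf X.smallEtaleTopology AddCommGrpCat.{u + 1}).map g = 0 := by
  have hz : ((Functor.const (X.Etale)ᵒᵖ).map (f ≫ g)) = 0 := by rw [w]; ext; rfl
  change (presheafToSheaf X.smallEtaleTopology AddCommGrpCat.{u + 1}).map _ ≫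
    (presheafToSheaf X.smallEtaleTopology AddCommGrpCat.{u + 1}).map _ = 0
  rw [← Functor.map_comp, ← Functor.map_comp, hz, Functor.map_zero]

/-- The sequence of constant sheaves of a short exact sequence is exact. -/
theorem exact_const {A B C : AddCommGrpCat.{u + 1}} (f : A ⟶ B) (g : B ⟶ C)
    (w : f ≫ g = 0) (h : (ShortComplex.mk f g w).Exact) :
    (ShortComplex.mk
      ((constantSheaf X.smallEtaleTopology AddCommGrpCat.{u + 1}).map f)
      ((constantSheaf X.smallEtaleTopology AddCommGrpCat.{u + 1}).map g)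
      (const_map_comp_zero f g w)).Exact := by
  let c : AddCommGrpCat.{u + 1} ⥤ (X.Etale)ᵒᵖ ⥤ AddCommGrpCat.{u + 1} := Functor.const _
  haveI : c.PreservesZeroMorphisms := ⟨fun _ _ => rfl⟩
  have h1 : ((ShortComplex.mk f g w).map c).Exact := by
    rw [ShortComplex.exact_iff_isZero_homology]
    refine Functor.isZero _ fun U => ?_
    exact IsZero.of_iso ((ShortComplex.exact_iff_isZero_homology _).1 h)
      (((ShortComplex.mk f g w).map c).mapHomologyIso ((evaluation _ _).obj U)).symm
  exact h1.map (presheafToSheaf X.smallEtaleTopology AddCommGrpCat.{u + 1})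

theorem isIso_of_stalk_genericPoint [IrreducibleSpace ↥X]
    {Ω : Type u} [Field Ω] [IsSepClosed Ω] (ξ : Spec (CommRingCat.of Ω) ⟶ X)
    (hξ : ξ.base default = genericPoint ↥X) {A B C : AddCommGrpCat.{u + 1}} (f : A ⟶ B) (g : B ⟶ C)
    (w : f ≫ g = 0) (hex : (ShortComplex.mk f g w).Exact) {G : EtCoh.Ab X}
    (a : (constantSheaf X.smallEtaleTopology AddCommGrpCat.{u + 1}).obj A ⟶ G)
    (b : G ⟶ (constantSheaf X.smallEtaleTopology AddCommGrpCat.{u + 1}).obj B) [Mono a] [Mono b]
    (hab : a ≫ b = (constantSheaf X.smallEtaleTopology AddCommGrpCat.{u + 1}).map f)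
    (hst : IsIso ((EtCoh.stalk ξ).map a)) : IsIso a := by
  let K := constantSheaf X.smallEtaleTopology AddCommGrpCat.{u + 1}
  have hS := exact_const (X := X) f g w hex
  haveI : Mono (K.map f) := hab ▸ mono_comp a b
  have hφ : b ≫ K.map g = 0 := by
    refine map_eq_zero_of_generic_charts _ (fun Ω' _ _ η => exists_chart_const C η)
      (genericPoint ↥X) (fun O hO hne =>
        (genericPoint_spec ↥X).mem_open_set_iff hO |>.2 (by simpa using hne)) ξ hξ ?_
    rw [← cancel_epi ((EtCoh.stalk ξ).map a), ← Functor.map_comp, comp_zero, ← Category.assoc, hab]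
    refine (congrArg (EtCoh.stalk ξ).map ?_).trans ((EtCoh.stalk ξ).map_zero _ _)
    exact const_map_comp_zero f g w
  haveI : Mono (ShortComplex.mk (K.map f) (K.map g) (const_map_comp_zero f g w)).f := ‹Mono (K.map f)›
  let r := hS.lift b hφ
  have hr : r ≫ K.map f = b := hS.lift_f b hφ
  have h1 : a ≫ r = 𝟙 _ := by
    rw [← cancel_mono (K.map f), Category.assoc, hr, hab, Category.id_comp]
  haveI : Mono r := by
    haveI : Mono (r ≫ K.map f) := hr.symm ▸ inferInstance
    exact mono_of_mono r (K.map f)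
  exact ⟨⟨r, h1, by rw [← cancel_mono r, Category.assoc, h1, Category.comp_id, Category.id_comp]⟩⟩

end GrothLib.Constructible
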