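import Groth.Agent.Lib.Constructible.ExtZero
import Groth.Agent.Lib.ExtZero.Finite
import Groth.Agent.Lib.RedSub.Basic

/-!
# Stratifications making finitely many etale morphisms finite

Finitely many separated quasi-compact etale morphisms become finite on the members of a finite
stratification into reduced constructible pieces; finiteness glues along finite open covers of
the source whose pairwise intersections are finite.
-/

universe u

open CategoryTheory CategoryTheory.Limits AlgebraicGeometry Opposite Topology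
open GrothLib.EtSite GrothLib.ExtZero

set_option backward.isDefEq.respectTransparency.types false

noncomputable section

namespace GrothLib.Constructible

/-- The property is inherited by the union of complementary opens. -/
theorem isFinite_of_isCompl {W Z : Scheme.{u}} (f : W ⟶ Z) (A B : W.Opens) (h : IsCompl A B)
    [IsFinite (A.ι ≫ f)] [IsFinite (B.ι ≫ f)] : IsFinite f := by
  obtain ⟨hc⟩ := nonempty_isColimit_binaryCofanMk_of_isCompl A.ι B.ι
    (by rwa [Scheme.Opens.opensRange_ι, Scheme.Opens.opensRange_ι])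
  let e : ((A : Scheme.{u}) ⨿ (B : Scheme.{u})) ≅ W :=
    (coprodIsCoprod (A : Scheme.{u}) (B : Scheme.{u})).coconePointUniqueUpToIso hc
  have : e.hom ≫ f = coprod.desc (A.ι ≫ f) (B.ι ≫ f) := by
    apply coprod.hom_ext
    · rw [coprod.inl_desc, ← Category.assoc]
      congr 1
      exact (coprodIsCoprod _ _).comp_coconePointUniqueUpToIso_hom hc ⟨WalkingPair.left⟩
    · rw [coprod.inr_desc, ← Category.assoc]
      congr 1
      exact (coprodIsCoprod _ _).comp_coconePointUniqueUpToIso_hom hc ⟨WalkingPair.right⟩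
  have h2 : f = e.inv ≫ coprod.desc (A.ι ≫ f) (B.ι ≫ f) := by
    rw [← this, Iso.inv_hom_id_assoc]
  rw [h2]
  infer_instance

variable {U Z : Scheme.{u}} (j : U ⟶ Z)

theorem isClosedMap_homOfLE {V W : U.Opens} (h : V ≤ W) [IsSeparated (W.ι ≫ j)] [IsFinite (V.ι ≫ j)] :
    IsFinite (U.homOfLE h) := by
  haveI : IsFinite (U.homOfLE h ≫ W.ι ≫ j) := by
    rw [← Category.assoc, U.homOfLE_ι]
    infer_instance
  exact IsFinite.of_comp (U.homOfLE h) (W.ι ≫ j)

/-- Finiteness glues along an open cover with finite pairwise intersections. -/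
theorem isFinite_of_cover {ι : Type} [Finite ι] (A : ι → U.Opens) (hA : ⨆ i, A i = ⊤)
    [∀ i, IsFinite ((A i).ι ≫ j)] (hAA : ∀ a b, IsFinite ((A a ⊓ A b).ι ≫ j)) : IsFinite j := by
  classical
  haveI := Fintype.ofFinite ι
  suffices ∀ (s : Finset ι) (W : U.Opens), W = s.sup A → IsFinite (W.ι ≫ j) by
    have h := this Finset.univ ⊤ (by rw [Finset.sup_univ_eq_iSup, hA])
    have : j = U.topIso.inv ≫ (⊤ : U.Opens).ι ≫ j := by
      rw [← U.topIso_hom, Iso.inv_hom_id_assoc]
    rw [this]
    infer_instance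
  intro s
  induction s using Finset.induction_on with
  | empty =>
    rintro W rfl
    rw [Finset.sup_empty]
    haveI : IsEmpty ((⊥ : U.Opens) : Scheme.{u}) := ⟨fun x => x.2⟩
    infer_instance
  | insert a s ha ih =>
    rintro W rfl
    rw [Finset.sup_insert]
    haveI hW := ih _ rfl
    let W := s.sup A
    have hcl : IsClosed ((A a).ι ⁻¹' (W : Set U)) := by
      have : (A a).ι ⁻¹' (W : Set U) = ⋃ b ∈ s, (A a).ι ⁻¹' (A b : Set U) := by
        ext x
        simp only [W, Set.mem_preimage, Set.mem_iUnion, Finset.sup_eq_iSup, SetLike.mem_coe,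
          TopologicalSpace.Opens.mem_iSup, exists_prop]
      rw [this]
      refine s.finite_toSet.isClosed_biUnion fun b _ => ?_
      haveI : IsFinite (U.homOfLE (inf_le_left : A a ⊓ A b ≤ A a)) := isClosedMap_homOfLE j _
      haveI := hAA a b
      have hr : (A a).ι ⁻¹' (A b : Set U) = Set.range (U.homOfLE (inf_le_left : A a ⊓ A b ≤ A a)) := by
        ext x
        constructor
        · intro hx
          exact ⟨⟨x.1, x.2, hx⟩, (A a).ι.isOpenEmbedding.injective
            (congrArg (fun m : ((A a ⊓ A b : U.Opens) : Scheme.{u}) ⟶ U => m ⟨x.1, x.2, hx⟩) (U.homOfLE_ι _))⟩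
        · rintro ⟨y, rfl⟩
          have := congrArg (fun m : ((A a ⊓ A b : U.Opens) : Scheme.{u}) ⟶ U => m y)
            (U.homOfLE_ι (inf_le_left : A a ⊓ A b ≤ A a))
          exact (show (A a).ι _ ∈ (A b : Set U) from this.symm ▸ y.2.2)
      rw [hr]
      exact (U.homOfLE (inf_le_left : A a ⊓ A b ≤ A a)).isClosedMap.isClosed_range
    let D : U.Opens := ⟨(A a).ι '' ((A a).ι ⁻¹' (W : Set U))ᶜ,
      (A a).ι.isOpenEmbedding.isOpenMap _ hcl.isOpen_compl⟩
    have hD : D ≤ A a := by rintro x ⟨y, -, rfl⟩; exact y.2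
    haveI : IsClosedImmersion (U.homOfLE hD) := by
      refine IsClosedImmersion.of_isPreimmersion _ ?_
      have : Set.range (U.homOfLE hD) = ((A a).ι ⁻¹' (W : Set U))ᶜ := by
        have hcomp := fun y => congrArg (fun m : (D : Scheme.{u}) ⟶ U => m y) (U.homOfLE_ι hD)
        ext x
        constructor
        · rintro ⟨y, rfl⟩
          obtain ⟨z, hz, hzy⟩ := y.2
          exact (A a).ι.isOpenEmbedding.injective (hzy.trans (hcomp y).symm) ▸ hz
        · intro hx
          exact ⟨⟨(A a).ι x, x, hx, rfl⟩, (A a).ι.isOpenEmbedding.injective (hcomp _)⟩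
      rw [this]
      exact ((W.2).preimage (A a).ι.continuous).isClosed_compl
    let T := A a ⊔ W
    have hWT : W ≤ T := le_sup_right
    have hDT : D ≤ T := hD.trans le_sup_left
    haveI : IsFinite ((T.ι ⁻¹ᵁ W).ι ≫ T.ι ≫ j) := by
      have hr : Set.range ((T.ι ⁻¹ᵁ W).ι ≫ T.ι) = Set.range W.ι := by
        rw [show Set.range ((T.ι ⁻¹ᵁ W).ι ≫ T.ι) = T.ι '' Set.range (T.ι ⁻¹ᵁ W).ι from
          Set.range_comp T.ι (T.ι ⁻¹ᵁ W).ι, Scheme.Opens.range_ι, Scheme.Opens.range_ι]
        refine Set.image_preimage_eq_of_subset ?_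
        rw [Scheme.Opens.range_ι]
        exact hWT
      have : (T.ι ⁻¹ᵁ W).ι ≫ T.ι ≫ j = (IsOpenImmersion.isoOfRangeEq _ _ hr).hom ≫ W.ι ≫ j := by
        rw [← Category.assoc (IsOpenImmersion.isoOfRangeEq _ _ hr).hom, IsOpenImmersion.isoOfRangeEq_hom_fac,
          Category.assoc]
      rw [this]
      infer_instance
    haveI : IsFinite ((T.ι ⁻¹ᵁ D).ι ≫ T.ι ≫ j) := by
      have hr : Set.range ((T.ι ⁻¹ᵁ D).ι ≫ T.ι) = Set.range D.ι := by
        rw [show Set.range ((T.ι ⁻¹ᵁ D).ι ≫ T.ι) = T.ι '' Set.range (T.ι ⁻¹ᵁ D).ι from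
          Set.range_comp T.ι (T.ι ⁻¹ᵁ D).ι, Scheme.Opens.range_ι, Scheme.Opens.range_ι]
        refine (Set.image_preimage_eq_inter_range (f := T.ι) (t := (D : Set U))).trans ?_
        rw [Scheme.Opens.range_ι]
        exact Set.inter_eq_left.2 hDT
      have : (T.ι ⁻¹ᵁ D).ι ≫ T.ι ≫ j = (IsOpenImmersion.isoOfRangeEq _ _ hr).hom ≫ U.homOfLE hD ≫ (A a).ι ≫ j := by
        rw [← Category.assoc (U.homOfLE hD), U.homOfLE_ι]
        rw [← Category.assoc (IsOpenImmersion.isoOfRangeEq _ _ hr).hom, IsOpenImmersion.isoOfRangeEq_hom_fac,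
          Category.assoc]
      rw [this]
      infer_instance
    refine isFinite_of_isCompl (T.ι ≫ j) (T.ι ⁻¹ᵁ W) (T.ι ⁻¹ᵁ D) ⟨?_, ?_⟩
    · rw [disjoint_iff]
      ext x
      refine ⟨?_, fun h => h.elim⟩
      rintro ⟨hx, y, hy, hyx⟩
      exact hy (show (A a).ι y ∈ (W : Set U) from hyx ▸ hx)
    · rw [codisjoint_iff, eq_top_iff]
      intro x _
      by_cases hx : T.ι x ∈ W
      · exact Or.inl hx
      · rcases (show T.ι x ∈ A a ⊔ W from x.2) with h | h
        · exact Or.inr ⟨⟨T.ι x, h⟩, hx, rfl⟩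
        · exact absurd h hx

/-- Finitely many separated quasi-compact etale morphisms: stratification with finite restrictions. -/
theorem exists_strata_finite {X : Scheme.{u}} [CompactSpace X] [QuasiSeparatedSpace X]
    {ι : Type} [Finite ι] (V : ι → Scheme.{u}) (f : ∀ a, V a ⟶ X) [∀ a, Etale (f a)]
    [∀ a, IsSeparated (f a)] [∀ a, QuasiCompact (f a)] :
    ∃ (n : ℕ) (T : Fin n → Scheme.{u}) (g : ∀ i, T i ⟶ X),
      (∀ i, IsReduced (T i)) ∧
      (∀ i, IsImmersion (g i)) ∧ (∀ i, IsConstructible (Set.range (g i))) ∧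
      Pairwise (fun i i' => Disjoint (Set.range (g i)) (Set.range (g i'))) ∧
      (⋃ i, Set.range (g i)) = Set.univ ∧ ∀ i a, IsFinite (pullback.snd (f a) (g i)) := by
  classical
  let cnt : X → ι → ℕ := fun x a => Nat.card (Pts (f a) (gpt x))
  have hbound : ∀ a, ∃ N, ∀ x, cnt x a ≤ N := fun a => by
    obtain ⟨t, ht⟩ := @IsCompact.elim_finite_subcover X (constructibleTopology _) Set.univ _
      (GrothLib.Constr.isCompact_constructibleTopology_of_isClosed
        (@isClosed_univ X (constructibleTopology _)))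
      (fun k => (atLeast (f a) k)ᶜ)
      (fun k => (GrothLib.Constr.isOpen_constructibleTopology_of_isConstructible
        (isConstructible_atLeast (f a) k).compl).1)
      (fun x _ => Set.mem_iUnion.2 ⟨cnt x a + 1, fun hx => by
        rw [mem_atLeast_iff'] at hx
        dsimp only [cnt] at hx
        lia⟩)
    refine ⟨t.sup id, fun x => ?_⟩
    obtain ⟨k, hk, hxk⟩ := Set.mem_iUnion₂.1 (ht (Set.mem_univ x))
    by_contra hlt
    refine hxk ((mem_atLeast_iff' (f a) k x).2 ?_)
    have := Finset.le_sup (f := id) hk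
    dsimp only [id, cnt] at this hlt
    lia
  choose N hN using hbound
  haveI : Finite (Set.range cnt) := Set.Finite.to_subtype ((Set.Finite.pi (t := fun a => Set.Iic (N a))
    fun a => Set.finite_Iic (N a)).subset (by rintro _ ⟨x, rfl⟩ a -; exact hN a x))
  let e := (Finite.equivFin (Set.range cnt)).symm
  let O : Fin (Nat.card (Set.range cnt)) → X.Opens := fun k =>
    ⟨⋂ a, atLeast (f a) ((e k).1 a), isOpen_iInter_of_finite fun a => isOpen_atLeast _ _⟩
  let Z : ∀ k, TopologicalSpace.Closeds ↥(O k : Scheme.{u}) := fun k =>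
    ⟨(O k).ι ⁻¹' (⋃ a, atLeast (f a) ((e k).1 a + 1))ᶜ,
      (isOpen_iUnion fun a => isOpen_atLeast _ _).isClosed_compl.preimage (O k).ι.continuous⟩
  let I := fun k => Scheme.IdealSheafData.vanishingIdeal (Z k)
  let g : ∀ k, (I k).subscheme ⟶ X := fun k => (I k).subschemeι ≫ (O k).ι
  have hrange : ∀ k, Set.range (g k) = (⋂ a, atLeast (f a) ((e k).1 a)) \
      (⋃ a, atLeast (f a) ((e k).1 a + 1)) := fun k => by
    rw [show Set.range (g k) = (O k).ι '' Set.range (I k).subschemeι from
      Set.range_comp (O k).ι (I k).subschemeι, Scheme.IdealSheafData.range_subschemeι,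
      Scheme.IdealSheafData.coe_support_vanishingIdeal]
    refine (Set.image_preimage_eq_inter_range (f := (O k).ι)
      (t := (⋃ a, atLeast (f a) ((e k).1 a + 1))ᶜ)).trans ?_
    rw [Scheme.Opens.range_ι, Set.inter_comm]
    rfl
  have hmem : ∀ k x, x ∈ Set.range (g k) ↔ cnt x = (e k).1 := fun k x => by
    rw [hrange]
    simp only [Set.mem_sdiff, Set.mem_iInter, Set.mem_iUnion, not_exists, mem_atLeast_iff', funext_iff, cnt]
    exact ⟨fun h a => by have := h.1 a; have := h.2 a; lia, fun h => ⟨fun a => by rw [h a],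
      fun a => by rw [h a]; lia⟩⟩
  refine ⟨_, fun k => (I k).subscheme, g, fun k => GrothLib.RedSub.isReduced_subscheme_vanishingIdeal (Z k), fun k => inferInstance, fun k => ?_,
    fun k l hkl => ?_, ?_, fun k a => ?_⟩
  · rw [hrange]
    refine (IsConstructible.iInter fun a => ?_).sdiff (IsConstructible.iUnion fun a => ?_) <;>
      exact isConstructible_atLeast _ _
  · change Disjoint (Set.range (g k)) (Set.range (g l))
    rw [Set.disjoint_left]
    intro x hx hx'
    rw [hmem] at hx hx'
    exact hkl (e.injective (Subtype.ext (hx.symm.trans hx')))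
  · refine Set.eq_univ_of_forall fun x => ?_
    obtain ⟨k, hk⟩ := e.surjective ⟨cnt x, x, rfl⟩
    exact Set.mem_iUnion.2 ⟨k, (hmem k x).2 (by rw [hk])⟩
  · let j' : pullback (f a) (g k) ⟶ (I k).subscheme := pullback.snd (f a) (g k)
    haveI : Etale j' := MorphismProperty.pullback_snd _ _ inferInstance
    haveI : QuasiCompact j' := MorphismProperty.pullback_snd _ _ inferInstance
    haveI : IsSeparated j' := MorphismProperty.pullback_snd _ _ inferInstance
    refine GrothLib.ExtZero.isFinite_of_card j' ((e k).1 a) fun Ω _ _ η => ?_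
    rw [natCard_pts_baseChange (f a) (g k) j' (pullback.fst (f a) (g k))
      (IsPullback.of_hasPullback (f a) (g k)).flip η]
    have h := (hrange k).le (⟨η.base default, rfl⟩ : g k (η.base default) ∈ Set.range (g k))
    have h1 := (mem_atLeast_iff (f a) ((e k).1 a) (η ≫ g k)).1 (Set.mem_iInter.1 h.1 a)
    have h2 : ¬ (e k).1 a + 1 ≤ Nat.card (Pts (f a) (η ≫ g k)) := fun hh =>
      h.2 (Set.mem_iUnion.2 ⟨a, (mem_atLeast_iff (f a) _ (η ≫ g k)).2 hh⟩)
    lia

end GrothLib.Constructible
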