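import Groth.Agent.Lib.LocConst.Pull
import Groth.Agent.Lib.Constr.Scheme
import Mathlib.AlgebraicGeometry.IdealSheaf.Subscheme
import Mathlib.AlgebraicGeometry.PullbackCarrier
import Mathlib.AlgebraicGeometry.Morphisms.FinitePresentation
import Groth.Prelude.Def_PBC

/-!
# Stratifications adapted to abelian etale sheaves

Finitely many constructible pieces along each of which a sheaf is finite locally constant can be
refined to a disjoint stratification; consequences for constructible sheaves.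
-/

universe u

open CategoryTheory CategoryTheory.Limits AlgebraicGeometry Opposite Topology

set_option backward.isDefEq.respectTransparency.types false

noncomputable section

namespace GrothLib.Constructible

/-- A constructible set is saturated for finitely many retrocompact opens. -/
theorem exists_generators {α : Type*} [TopologicalSpace α] {C : Set α} (hC : IsConstructible C) :
    ∃ O : Finset (Set α), (∀ o ∈ O, IsOpen o ∧ IsRetrocompact o) ∧
      ∀ x y, (∀ o ∈ O, x ∈ o ↔ y ∈ o) → (x ∈ C ↔ y ∈ C) := by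
  classical
  induction hC using IsConstructible.empty_union_induction with
  | open_retrocompact U hU hU' =>
    exact ⟨{U}, fun o ho => by rw [Finset.mem_singleton.1 ho]; exact ⟨hU, hU'⟩,
      fun x y h => h U (Finset.mem_singleton_self U)⟩
  | union s hs t ht ihs iht =>
    obtain ⟨O, hO, hs'⟩ := ihs
    obtain ⟨O', hO', ht'⟩ := iht
    refine ⟨O ∪ O', fun o ho => (Finset.mem_union.1 ho).elim (hO o) (hO' o), fun x y h => ?_⟩
    exact or_congr (hs' x y fun o ho => h o (Finset.mem_union_left _ ho))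
      (ht' x y fun o ho => h o (Finset.mem_union_right _ ho))
  | compl s hs ihs =>
    obtain ⟨O, hO, hs'⟩ := ihs
    exact ⟨O, hO, fun x y h => not_congr (hs' x y h)⟩

variable {X Y : Scheme.{u}}

theorem flc_of_iso {F G : EtCoh.Ab X} (e : F ≅ G) (h : EtCoh.IsFiniteLocallyConstant F) :
    EtCoh.IsFiniteLocallyConstant G := by
  obtain ⟨ι, U, hU, hM⟩ := h
  refine ⟨ι, U, hU, fun i => ?_⟩
  obtain ⟨M, inst, hfin, ⟨a⟩⟩ := hM i
  exact ⟨M, inst, hfin, ⟨((X.smallEtaleTopology.overPullback _ (U i)).mapIso e).symm ≪≫ a⟩⟩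

/-- Finite local constancy along a morphism passes to morphisms factoring through it. -/
theorem flc_of_fac {T S : Scheme.{u}} (a : T ⟶ S) (q : S ⟶ X) (b : T ⟶ X) (w : a ≫ q = b)
    (F : EtCoh.Ab X) (h : EtCoh.IsFiniteLocallyConstant ((EtCoh.pull q).obj F)) :
    EtCoh.IsFiniteLocallyConstant ((EtCoh.pull b).obj F) :=
  flc_of_iso (((EtCore.pullCongr w).symm ≪≫ EtCore.pullComp a q).app F).symm
    (GrothLib.LocConst.isFiniteLocallyConstant_pull a _ h)

/-- Finitely many constructible pieces covering an open refine to an adapted stratification. -/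
theorem adapted_of_pieces (F : EtCoh.Ab X) (S : X.Opens) {ι : Type} [Finite ι] (T : ι → Scheme.{u})
    (g : ∀ i, T i ⟶ X) [∀ i, IsImmersion (g i)] (C : ι → Set X)
    (hC : ∀ i, C i ⊆ Set.range (g i)) (hcons : ∀ i, IsConstructible (S.ι ⁻¹' C i))
    (hcov : (S : Set X) ⊆ ⋃ i, C i)
    (h : ∀ i, EtCoh.IsFiniteLocallyConstant ((EtCoh.pull (g i)).obj F)) :
    EtPBC.AdaptedStrata F (S : Set X) := by
  classical
  haveI := Fintype.ofFinite ι
  choose O hO hsat using fun i => exists_generators (hcons i)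
  let P := Finset.univ.biUnion O
  have hP : ∀ o ∈ P, IsOpen o ∧ IsRetrocompact o := fun o ho => by
    obtain ⟨i, -, hi⟩ := Finset.mem_biUnion.1 ho
    exact hO i o hi
  let pat : ↥(S : Scheme.{u}) → Finset (Set ↥(S : Scheme.{u})) := fun x => P.filter fun o => x ∈ o
  let Q := {s : Finset (Set ↥(S : Scheme.{u})) // s ∈ P.powerset ∧ ∃ x, pat x = s}
  haveI : Finite Q := Finite.of_injective (β := P.powerset) (fun q => ⟨q.1, q.2.1⟩)
    fun a b hab => Subtype.ext (congrArg Subtype.val hab :)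
  let A : Q → Set ↥(S : Scheme.{u}) := fun q => {x | pat x = q.1}
  let W : Q → Set ↥(S : Scheme.{u}) := fun q => ⋂ o ∈ q.1, o
  let V : Q → Set ↥(S : Scheme.{u}) := fun q => ⋃ o ∈ P \ q.1, o
  have hA : ∀ q, A q = W q \ V q := fun q => by
    ext x
    simp only [A, W, V, pat, Set.mem_setOf_eq, Set.mem_sdiff, Set.mem_iInter, Set.mem_iUnion, Finset.mem_sdiff]
    constructor
    · intro e
      refine ⟨fun o ho => by rw [← e] at ho; exact (Finset.mem_filter.1 ho).2, ?_⟩
      rintro ⟨o, ⟨ho, ho'⟩, hxo⟩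
      exact ho' (e ▸ Finset.mem_filter.2 ⟨ho, hxo⟩)
    · rintro ⟨h1, h2⟩
      ext o
      rw [Finset.mem_filter]
      exact ⟨fun ⟨ho, hxo⟩ => by_contra fun hn => h2 ⟨o, ⟨ho, hn⟩, hxo⟩,
        fun ho => ⟨Finset.mem_powerset.1 q.2.1 ho, h1 o ho⟩⟩
  have hWo : ∀ q, IsOpen (W q) := fun q =>
    isOpen_biInter_finset fun o ho => (hP o (Finset.mem_powerset.1 q.2.1 ho)).1
  have hVo : ∀ q, IsOpen (V q) := fun q =>
    isOpen_biUnion fun o ho => (hP o (Finset.mem_sdiff.1 ho).1).1
  have hAcons : ∀ q, IsConstructible (A q) := fun q => by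
    rw [hA q]
    refine IsConstructible.sdiff ?_ ?_
    · exact IsConstructible.biInter q.1.finite_toSet fun o ho =>
        (hP o (Finset.mem_powerset.1 q.2.1 ho)).2.isConstructible (hP o (Finset.mem_powerset.1 q.2.1 ho)).1
    · exact IsConstructible.biUnion (P \ q.1).finite_toSet fun o ho =>
        (hP o (Finset.mem_sdiff.1 ho).1).2.isConstructible (hP o (Finset.mem_sdiff.1 ho).1).1
  have hpiece : ∀ q : Q, ∃ i, ∀ x ∈ A q, S.ι x ∈ C i := fun q => by
    obtain ⟨x, hx⟩ := q.2.2
    obtain ⟨i, hi⟩ := Set.mem_iUnion.1 (hcov x.2)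
    refine ⟨i, fun y hy => ?_⟩
    refine (hsat i x y fun o ho => ?_).1 hi
    have hoP : o ∈ P := Finset.mem_biUnion.2 ⟨i, Finset.mem_univ i, ho⟩
    have e : pat x = pat y := hx.trans hy.symm
    exact ⟨fun hxo => (Finset.mem_filter.1 (e ▸ Finset.mem_filter.2 ⟨hoP, hxo⟩ : o ∈ pat y)).2,
      fun hyo => (Finset.mem_filter.1 (e.symm ▸ Finset.mem_filter.2 ⟨hoP, hyo⟩ : o ∈ pat x)).2⟩
  choose idx hidx using hpiece
  have hopen : ∀ s : Set ↥(S : Scheme.{u}), IsOpen s → IsOpen (S.ι '' s) := fun s hs =>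
    S.ι.isOpenEmbedding.isOpenMap s hs
  let Wo : ∀ q, (T (idx q)).Opens := fun q => g (idx q) ⁻¹ᵁ ⟨S.ι '' W q, hopen _ (hWo q)⟩
  let Z : ∀ q, TopologicalSpace.Closeds ↥((Wo q) : Scheme.{u}) := fun q =>
    ⟨((Wo q).ι ≫ g (idx q)) ⁻¹' (S.ι '' V q)ᶜ,
      ((hopen _ (hVo q)).isClosed_compl).preimage ((Wo q).ι ≫ g (idx q)).continuous⟩
  let I := fun q => Scheme.IdealSheafData.vanishingIdeal (Z q)
  let m : ∀ q, (I q).subscheme ⟶ X := fun q => (I q).subschemeι ≫ (Wo q).ι ≫ g (idx q)
  have hrange : ∀ q, Set.range (m q) = S.ι '' A q := fun q => by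
    have hZ : Set.range (I q).subschemeι = (Z q : Set ↥((Wo q) : Scheme.{u})) := by
      rw [Scheme.IdealSheafData.range_subschemeι, Scheme.IdealSheafData.coe_support_vanishingIdeal]
    apply Set.Subset.antisymm
    · rintro _ ⟨z, rfl⟩
      have hz : (I q).subschemeι z ∈ (Z q : Set ↥((Wo q) : Scheme.{u})) := hZ ▸ Set.mem_range_self z
      obtain ⟨x, hx, hxw⟩ := ((I q).subschemeι z).2
      refine ⟨x, ?_, hxw⟩
      rw [hA q]
      exact ⟨hx, fun hxV => hz ⟨x, hxV, hxw⟩⟩
    · rintro _ ⟨x, hx, rfl⟩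
      obtain ⟨t, ht⟩ := hC _ (hidx q x hx)
      rw [hA q] at hx
      let w : ↥((Wo q) : Scheme.{u}) := ⟨t, ⟨x, hx.1, ht.symm⟩⟩
      have hw : w ∈ (Z q : Set ↥((Wo q) : Scheme.{u})) := by
        rintro ⟨y, hy, hyw⟩
        exact hx.2 (S.ι.isOpenEmbedding.injective (hyw.trans ht) ▸ hy)
      obtain ⟨z, hz⟩ : w ∈ Set.range (I q).subschemeι := hZ.symm ▸ hw
      exact ⟨z, (congrArg (fun v => ((Wo q).ι ≫ g (idx q)) v) hz).trans ht⟩
  let e := (Finite.equivFin Q).symm
  refine ⟨Nat.card Q, fun k => (I (e k)).subscheme, fun k => m (e k), fun k => ?_, fun k => ?_,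
    fun k l hkl => ?_, ?_, fun k => ?_⟩
  · haveI : IsImmersion (g (idx (e k))) := inferInstance
    infer_instance
  · rw [hrange]
    have : (Subtype.val : ↥(S : Set X) → X) ⁻¹' (S.ι '' A (e k)) = A (e k) :=
      Set.preimage_image_eq _ S.ι.isOpenEmbedding.injective
    rw [this]
    exact hAcons _
  · change Disjoint (Set.range (m (e k))) (Set.range (m (e l)))
    rw [Set.disjoint_left]
    intro z hz hz'
    rw [hrange] at hz hz'
    obtain ⟨x, hx, rfl⟩ := hz
    obtain ⟨y, hy, hxy⟩ := hz'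
    rw [S.ι.isOpenEmbedding.injective hxy] at hy
    exact hkl (e.injective (Subtype.ext (hx.symm.trans hy)))
  · apply Set.Subset.antisymm
    · refine Set.iUnion_subset fun k => ?_
      rw [hrange]
      rintro _ ⟨x, -, rfl⟩
      exact x.2
    · intro z hz
      let x : ↥(S : Scheme.{u}) := ⟨z, hz⟩
      obtain ⟨k, hk⟩ := e.surjective ⟨pat x, Finset.mem_powerset.2 (Finset.filter_subset _ _), x, rfl⟩
      refine Set.mem_iUnion.2 ⟨k, ?_⟩
      rw [hrange]
      exact ⟨x, (congrArg Subtype.val hk).symm, rfl⟩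
  · intro _
    exact flc_of_fac ((I (e k)).subschemeι ≫ (Wo (e k)).ι) (g (idx (e k))) (m (e k))
      (Category.assoc _ _ _) F (h _)

theorem range_immersion_subset {F : EtCoh.Ab X} {S : Set X} {n : ℕ} {T : Fin n → Scheme.{u}}
    {g : ∀ i, T i ⟶ X} (h : (⋃ i, Set.range (g i)) = S) (i : Fin n) : Set.range (g i) ⊆ S :=
  h ▸ Set.subset_iUnion (fun i => Set.range (g i)) i

/-- Preimages of subsets constructible in an open along a morphism into it are constructible. -/
theorem isConstructible_preimage_of_fac (V : Y.Opens) {W : Scheme.{u}} (a : W ⟶ (V : Scheme.{u}))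
    (b : W ⟶ Y) (w : a ≫ V.ι = b) {R : Set Y}
    (hR : IsConstructible ((Subtype.val : ↥(V : Set Y) → Y) ⁻¹' R)) : IsConstructible (b ⁻¹' R) := by
  subst w
  exact a.isConstructible_preimage hR

/-- Stratifications pull back. -/
theorem adapted_pull (f : X ⟶ Y) (F : EtCoh.Ab Y) (V : Y.Opens) (W : X.Opens) (hW : W ≤ f ⁻¹ᵁ V)
    (h : EtPBC.AdaptedStrata F (V : Set Y)) :
    EtPBC.AdaptedStrata ((EtCoh.pull f).obj F) (W : Set X) := by
  obtain ⟨n, T, g, himm, hcons, -, hcov, hflc⟩ := h
  haveI : ∀ i, IsImmersion (pullback.fst f (g i)) := fun i =>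
    MorphismProperty.pullback_fst (P := @IsImmersion) _ _ (himm i)
  refine adapted_of_pieces _ W (fun i => pullback f (g i)) (fun i => pullback.fst f (g i))
    (fun i => f ⁻¹' Set.range (g i)) (fun i => (Scheme.Pullback.range_fst (f := f) (g := g i)).ge)
    (fun i => ?_) (fun x hx => ?_) (fun i => ?_)
  · rw [← Set.preimage_comp]
    exact isConstructible_preimage_of_fac V (f.resLE V W hW) (W.ι ≫ f) (f.resLE_comp_ι hW) (hcons i)
  · obtain ⟨i, hi⟩ := Set.mem_iUnion.1 (hcov.ge (hW hx))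
    exact Set.mem_iUnion.2 ⟨i, hi⟩
  · exact flc_of_iso ((EtCore.pullComp (pullback.fst f (g i)) f).app F)
      (flc_of_fac (pullback.snd f (g i)) (g i) _ pullback.condition.symm F (hflc i))

/-- Stratifications restrict to smaller opens. -/
theorem adapted_mono (F : EtCoh.Ab X) (V W : X.Opens) (hW : W ≤ V)
    (h : EtPBC.AdaptedStrata F (V : Set X)) : EtPBC.AdaptedStrata F (W : Set X) := by
  obtain ⟨n, T, g, himm, hcons, -, hcov, hflc⟩ := h
  exact adapted_of_pieces F W T g (fun i => Set.range (g i)) (fun i => le_rfl)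
    (fun i => isConstructible_preimage_of_fac V (X.homOfLE hW) W.ι (X.homOfLE_ι hW) (hcons i))
    (fun x hx => hcov.ge (hW hx)) (fun i => hflc i)

/-- Stratifications of a piece of a subscheme give stratifications. -/
theorem adapted_of_factor {Y' : Scheme.{u}} (j : Y' ⟶ X) [IsImmersion j] (F : EtCoh.Ab X)
    (W' : Y'.Opens) (W : X.Opens) (a : (W : Scheme.{u}) ⟶ (W' : Scheme.{u}))
    (ha : a ≫ W'.ι ≫ j = W.ι) (h : EtPBC.AdaptedStrata ((EtCoh.pull j).obj F) (W' : Set Y')) :
    EtPBC.AdaptedStrata F (W : Set X) := by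
  obtain ⟨n, T, g, himm, hcons, -, hcov, hflc⟩ := h
  refine adapted_of_pieces F W T (fun i => g i ≫ j) (fun i => Set.range (g i ≫ j)) (fun i => le_rfl)
    (fun i => ?_) (fun x hx => ?_) (fun i => ?_)
  · have : W.ι ⁻¹' Set.range (g i ≫ j) = (a ≫ W'.ι) ⁻¹' Set.range (g i) := by
      ext x
      have hx : W.ι x = j ((a ≫ W'.ι) x) := by rw [← ha]; rfl
      change W.ι x ∈ Set.range (g i ≫ j) ↔ _
      rw [hx]
      exact ⟨fun ⟨t, ht⟩ => ⟨t, j.isEmbedding.injective ht⟩,
        fun ⟨t, ht⟩ => ⟨t, congrArg j ht⟩⟩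
    rw [this]
    exact isConstructible_preimage_of_fac W' a (a ≫ W'.ι) rfl (hcons i)
  · obtain ⟨i, t, ht⟩ := Set.mem_iUnion.1 (hcov.ge ((a ⟨x, hx⟩).2))
    refine Set.mem_iUnion.2 ⟨i, t, ?_⟩
    have := congrArg (fun k : (W : Scheme.{u}) ⟶ X => k ⟨x, hx⟩) ha
    exact (congrArg j ht).trans this
  · exact flc_of_iso ((EtCore.pullComp (g i) j).app F).symm (hflc i)

/-- Stratifications over the members of an affine cover of a compact quasi-separated open glue. -/
theorem adapted_of_local (F : EtCoh.Ab X) (S : X.Opens) [CompactSpace (S : Scheme.{u})]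
    [QuasiSeparatedSpace (S : Scheme.{u})]
    (h : ∀ x ∈ S, ∃ W : X.Opens, IsAffineOpen W ∧ W ≤ S ∧ x ∈ W ∧ EtPBC.AdaptedStrata F (W : Set X)) :
    EtPBC.AdaptedStrata F (S : Set X) := by
  choose W hW hWS hxW hA using fun x : S => h x x.2
  obtain ⟨t, ht⟩ := (isCompact_iff_compactSpace.2 ‹CompactSpace (S : Scheme.{u})› : IsCompact (S : Set X)).elim_finite_subcover
    (fun x => (W x : Set X)) (fun x => (W x).2) (fun x hx => Set.mem_iUnion.2 ⟨⟨x, hx⟩, hxW _⟩)
  choose n T g himm hcons hdisj hcov hflc using fun x : t => hA x.1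
  let e := t.equivFin.symm
  refine adapted_of_pieces F S (ι := Σ k : Fin t.card, Fin (n (e k))) (fun p => T (e p.1) p.2)
    (fun p => g (e p.1) p.2) (fun p => Set.range (g (e p.1) p.2)) (fun p => le_rfl) (fun p => ?_)
    (fun x hx => ?_) (fun p => hflc _ _)
  · let hle := hWS (e p.1).1
    let o := X.homOfLE hle
    have hsub : S.ι ⁻¹' Set.range (g (e p.1) p.2) ⊆ Set.range o := fun z hz => by
      obtain ⟨y, hy⟩ := hz
      have : S.ι z ∈ W (e p.1).1 := (hcov (e p.1)).le (Set.mem_iUnion.2 ⟨p.2, y, hy⟩)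
      exact ⟨⟨S.ι z, this⟩, S.ι.isOpenEmbedding.injective
        (congrArg (fun k => k ⟨S.ι z, this⟩) (X.homOfLE_ι hle))⟩
    haveI : CompactSpace (W (e p.1).1 : Scheme.{u}) := isCompact_iff_compactSpace.1 (hW _).isCompact
    have hr : IsRetrocompact (Set.range o) :=
      (isCompact_range o.continuous).isRetrocompact o.isOpenEmbedding.isOpen_range
    refine (isConstructible_preimage_iff_of_isOpenEmbedding o.isOpenEmbedding hr hsub).1 ?_
    rw [← Set.preimage_comp]
    exact isConstructible_preimage_of_fac (W (e p.1).1) (𝟙 _) (o ≫ S.ι)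
      ((Category.id_comp _).trans (X.homOfLE_ι hle).symm) (hcons (e p.1) p.2)
  · obtain ⟨y, hy, hxy⟩ := Set.mem_iUnion₂.1 (ht hx)
    obtain ⟨k, hk⟩ := e.surjective ⟨y, hy⟩
    obtain ⟨i, hi⟩ := Set.mem_iUnion.1 ((hcov (e k)).ge (show x ∈ W (e k).1 by rw [hk]; exact hxy))
    exact Set.mem_iUnion.2 ⟨⟨k, i⟩, hi⟩

theorem affine_nhd {U : Set X} (hU : IsOpen U) {x : X} (hx : x ∈ U) :
    ∃ V : X.Opens, IsAffineOpen V ∧ x ∈ V ∧ (V : Set X) ⊆ U :=
  GrothLib.Constr.exists_affine_nhd x hU hx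

/-- Stratifications over affine neighbourhoods give constructibility. -/
theorem isConstructible_of_local (F : EtCoh.Ab X)
    (h : ∀ (U : X.Opens) (x : X), x ∈ U →
      ∃ W : X.Opens, IsAffineOpen W ∧ W ≤ U ∧ x ∈ W ∧ EtPBC.AdaptedStrata F (W : Set X)) :
    EtPBC.IsConstructible F := fun U hU => by
  haveI : IsAffine (U : Scheme.{u}) := hU
  exact adapted_of_local F U fun x hx => h U x hx

/-- Inverse images of constructible sheaves are constructible. -/
theorem isConstructible_pull (f : X ⟶ Y) (F : EtCoh.Ab Y) (hF : EtPBC.IsConstructible F) :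
    EtPBC.IsConstructible ((EtCoh.pull f).obj F) :=
  isConstructible_of_local _ fun U x hx => by
    obtain ⟨V, hV, hxV, -⟩ := affine_nhd (X := Y) isOpen_univ (Set.mem_univ (f x))
    obtain ⟨W, hW, hxW, hWU⟩ := affine_nhd (X := X) (U ⊓ f ⁻¹ᵁ V).2 (show x ∈ U ⊓ f ⁻¹ᵁ V from ⟨hx, hxV⟩)
    exact ⟨W, hW, fun z hz => (hWU hz).1, hxW, adapted_pull f F V W (fun z hz => (hWU hz).2) (hF V hV)⟩

/-- Constructibility is local. -/
theorem isConstructible_of_cover (F : EtCoh.Ab X) {ι : Type u} (U : ι → X.Opens) (hU : ⨆ i, U i = ⊤)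
    (h : ∀ i, EtPBC.IsConstructible ((EtCoh.pull (U i).ι).obj F)) : EtPBC.IsConstructible F :=
  isConstructible_of_local _ fun S x hx => by
    obtain ⟨i, hi⟩ := TopologicalSpace.Opens.mem_iSup.1 (hU.ge (Set.mem_univ x : x ∈ (⊤ : X.Opens)))
    obtain ⟨W, hW, hxW, hWS⟩ := affine_nhd (X := X) (S ⊓ U i).2 (show x ∈ S ⊓ U i from ⟨hx, hi⟩)
    let a : (W : Scheme.{u}) ⟶ (U i : Scheme.{u}) := X.homOfLE fun z hz => (hWS hz).2
    let W' : (U i : Scheme.{u}).Opens := a.opensRange
    refine ⟨W, hW, fun z hz => (hWS hz).1, hxW,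
      adapted_of_factor (U i).ι F W' W a.isoOpensRange.hom ?_ ?_⟩
    · rw [← Category.assoc, Scheme.Hom.isoOpensRange_hom_ι]
      exact X.homOfLE_ι _
    · haveI : IsAffine (W : Scheme.{u}) := hW
      exact h i W' (isAffineOpen_opensRange a)

/-- For a quasi-compact quasi-separated scheme one stratification suffices. -/
theorem isConstructible_iff_univ [CompactSpace X] [QuasiSeparatedSpace X] (F : EtCoh.Ab X) :
    EtPBC.IsConstructible F ↔ EtPBC.AdaptedStrata F (Set.univ : Set X) := by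
  refine ⟨fun h => ?_, fun h U hU => adapted_mono F ⊤ U le_top h⟩
  haveI : CompactSpace ((⊤ : X.Opens) : Scheme.{u}) := isCompact_iff_compactSpace.1 isCompact_univ
  haveI : QuasiSeparatedSpace ((⊤ : X.Opens) : Scheme.{u}) :=
    (quasiSeparatedSpace_congr (X.topIso.hom.homeomorph)).2 inferInstance
  exact adapted_of_local F ⊤ fun x _ => by
    obtain ⟨W, hW, hxW, -⟩ := affine_nhd (X := X) isOpen_univ (Set.mem_univ x)
    exact ⟨W, hW, le_top, hxW, h W hW⟩

/-- Constructible pieces: a sheaf constructible on each is constructible. -/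
theorem isConstructible_of_strata [CompactSpace X] [QuasiSeparatedSpace X] (F : EtCoh.Ab X)
    {ι : Type u} (T : ι → Scheme.{u}) (g : ∀ i, T i ⟶ X) [∀ i, IsImmersion (g i)]
    (hc : ∀ i, IsConstructible (Set.range (g i))) (hcov : (⋃ i, Set.range (g i)) = Set.univ)
    (h : ∀ i, EtPBC.IsConstructible ((EtCoh.pull (g i)).obj F)) :
    EtPBC.IsConstructible F := by
  obtain ⟨t, ht⟩ := @IsCompact.elim_finite_subcover X (constructibleTopology X) Set.univ ι
    (GrothLib.Constr.isCompact_constructibleTopology_of_isClosed (@isClosed_univ X (constructibleTopology X)))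
    (fun i => Set.range (g i))
    (fun i => (GrothLib.Constr.isOpen_constructibleTopology_of_isConstructible (hc i)).1) hcov.ge
  haveI : ∀ i, CompactSpace (T i) := fun i => by
    refine ⟨(g i).isEmbedding.isCompact_iff.2 ?_⟩
    rw [Set.image_univ]
    simpa using @IsCompact.image X X (constructibleTopology X) _ _ id
      (GrothLib.Constr.isCompact_constructibleTopology_of_isClosed
        (GrothLib.Constr.isClosed_constructibleTopology_of_isConstructible (hc i)))
      GrothLib.Constr.continuous_id_constructibleTopology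
  haveI : ∀ i, QuasiSeparatedSpace (T i) := fun i => quasiSeparatedSpace_of_quasiSeparated (g i)
  choose n S s himm hcons hdisj hcov' hflc using fun i : t => (isConstructible_iff_univ _).1 (h i.1)
  rw [isConstructible_iff_univ]
  let e := t.equivFin.symm
  refine adapted_of_pieces F ⊤ (ι := Σ k : Fin t.card, Fin (n (e k))) (fun p => S (e p.1) p.2)
    (fun p => s (e p.1) p.2 ≫ g (e p.1).1) (fun p => Set.range (s (e p.1) p.2 ≫ g (e p.1).1))
    (fun p => le_rfl) (fun p => ?_) (fun x _ => ?_) (fun p => ?_)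
  · refine ((⊤ : X.Opens).ι).isConstructible_preimage ?_
    let i := (e p.1).1
    let R := Set.range (s (e p.1) p.2)
    have hR : IsConstructible R :=
      isConstructible_preimage_of_fac (⊤ : (T i).Opens) (T i).topIso.inv (𝟙 (T i))
        (by rw [← Scheme.topIso_hom]; exact (T i).topIso.inv_hom_id) (hcons (e p.1) p.2)
    rw [show Set.range (s (e p.1) p.2 ≫ g i) = g i '' R from Set.range_comp (g i) (s (e p.1) p.2)]
    rw [GrothLib.Constr.isConstructible_iff_isClopen] at hR
    have hclosed : ∀ E : Set (T i), IsClosed[constructibleTopology (T i)] E →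
        IsClosed[constructibleTopology X] (g i '' E) := fun E hE =>
      @IsCompact.isClosed X (constructibleTopology X) GrothLib.Constr.t2Space_constructibleTopology _
        (@IsCompact.image (T i) X (constructibleTopology _) (constructibleTopology X) E (g i)
          (GrothLib.Constr.isCompact_constructibleTopology_of_isClosed hE)
          (GrothLib.Constr.continuous_constructibleTopology (g i)))
    rw [GrothLib.Constr.isConstructible_iff_isClopen]
    refine ⟨?_, hclosed R hR.2⟩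
    have hcompl : (g i '' R)ᶜ = g i '' Rᶜ ∪ (Set.range (g i))ᶜ := by
      rw [← Set.range_sdiff_image (g i).isEmbedding.injective]
      ext z
      by_cases hz : z ∈ Set.range (g i) <;> simp [hz]
      intro r _ hr
      exact hz ⟨r, hr⟩
    refine (@isClosed_compl_iff X (constructibleTopology X) _).1 ?_
    rw [hcompl]
    exact @IsClosed.union X _ _ (constructibleTopology X)
      (hclosed Rᶜ ((@isClosed_compl_iff (T i) (constructibleTopology _) R).2 hR.1))
      (GrothLib.Constr.isClosed_constructibleTopology_of_isConstructible (hc i).compl)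
  · obtain ⟨i, hi, y, rfl⟩ := Set.mem_iUnion₂.1 (ht (Set.mem_univ x))
    obtain ⟨k, hk⟩ := e.surjective ⟨i, hi⟩
    have hi' : (e k).1 = i := congrArg Subtype.val hk
    subst hi'
    obtain ⟨l, z, hz⟩ := Set.mem_iUnion.1 ((hcov' (e k)).ge (Set.mem_univ y))
    exact Set.mem_iUnion.2 ⟨⟨k, l⟩, z, congrArg (g (e k).1) hz⟩
  · exact flc_of_iso ((EtCore.pullComp _ _).app F).symm (hflc _ _)

end GrothLib.Constructible
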